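import Cfsg.Agent.Lib.Sporadic.J1Unique.Five
import Cfsg.Agent.Lib.Sporadic.J1Order.Main

/-!
# A simple group with involution centraliser of type two times `A5` is the first Janko group
-/

set_option autoImplicit false
set_option maxRecDepth 100000

open scoped Classical

namespace CfsgLib.Sporadic.J1Unique

open Cfsg Cfsg.Spor CfsgLib CfsgLib.J1 CfsgLib.SmallGroups.J1Order CfsgLib.KnownA.J1Facts

/-- The words in Janko's matrices of the seven letters. -/
def wL : List (List Bool) := [wT, wA, wA ++ wA, wB, wB ++ wB ++ wB ++ wB, [false], xs 6]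

/-- Substitution of the words. -/
def flat (w : List ℕ) : List Bool := w.flatMap fun x => wL.getD x []

theorem certsJ :
    ((relWords ++ [extraWord 0]).all fun w => w.all (fun x => decide (x < 7)) &&
        beq (evalWord (flat w)) one) = true ∧
    (beq (evalWord (flat [0, 6, 4, 6, 3, 5, 2])) (evalWord [true]) &&
      beq (evalWord (wA ++ (wA ++ wA))) one && beq (evalWord (wB ++ (wB ++ wB ++ wB ++ wB))) one &&
      beq (evalWord ([false] ++ xs 6)) one) = true := by
  constructor <;> decide +kernel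

/-- The matrices satisfy the relations and generate. -/
theorem janko_side : ∃ t a b g : J1, t ≠ 1 ∧ Rels t a b g ∧
    evl (lets t a b g) (extraWord 0) = 1 ∧ gen t a b g = ⊤ := by
  obtain ⟨hall, h⟩ := certsJ
  simp only [Bool.and_eq_true] at h
  obtain ⟨⟨⟨hY, hA⟩, hB⟩, hX⟩ := h
  have iA : elt (wA ++ wA) = (elt wA)⁻¹ :=
    eq_inv_of_mul_eq_one_right (by rw [← elt_append]; exact elt_of_one hA)
  have iB : elt (wB ++ wB ++ wB ++ wB) = (elt wB)⁻¹ :=
    eq_inv_of_mul_eq_one_right (by rw [← elt_append]; exact elt_of_one hB)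
  have iX : elt (xs 6) = (elt [false])⁻¹ :=
    eq_inv_of_mul_eq_one_right (by rw [← elt_append]; exact elt_of_one hX)
  set t := elt wT
  set a := elt wA
  set b := elt wB
  set g := elt [false]
  have hl : ∀ x < 7, lets t a b g x = elt (wL.getD x []) := by
    intro x hx
    interval_cases x <;> simp only [lets, wL, List.getD_cons_zero, List.getD_cons_succ] <;>
      first | rfl | exact iA.symm | exact iB.symm | exact iX.symm
  have hevl : ∀ w : List ℕ, (∀ x ∈ w, x < 7) → evl (lets t a b g) w = elt (flat w) := by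
    intro w hw
    induction w with
    | nil => exact elt_nil.symm
    | cons x w ih =>
      rw [evl, hl x (hw x List.mem_cons_self), ih fun y hy => hw y (List.mem_cons_of_mem x hy),
        ← elt_append]
      rfl
  have hrel : ∀ w ∈ relWords ++ [extraWord 0], evl (lets t a b g) w = 1 := by
    intro w hw
    have h' := List.all_eq_true.1 hall w hw
    simp only [Bool.and_eq_true, List.all_eq_true, decide_eq_true_eq] at h'
    rw [hevl w h'.1]
    exact elt_of_one h'.2
  refine ⟨t, a, b, g, facts.1.2, ⟨facts.1.1, fun w hw => hrel w (List.mem_append_left _ hw)⟩,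
    hrel _ (List.mem_append_right _ (List.mem_singleton_self _)), ?_⟩
  rw [eq_top_iff]
  refine (Subgroup.closure_closure_coe_preimage (k := ({jankoX, jankoY} : Set _))).ge.trans
    ((Subgroup.closure_le _).2 ?_)
  intro x hx
  have hX' : ((elt [false] : J1) : GL (Fin 7) (ZMod 11)) = jankoX := Units.ext (by
    rw [elt_val, eval_cons, eval_nil, if_neg Bool.false_ne_true, dec_mul CfsgLib.J1.base.2.2.1 ok_one,
      dec_one, mul_one, jankoX_val])
  have hY' : ((elt [true] : J1) : GL (Fin 7) (ZMod 11)) = jankoY := Units.ext (by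
    rw [elt_val, eval_cons, eval_nil, if_pos rfl, dec_mul CfsgLib.J1.base.2.2.2.1 ok_one, dec_one, mul_one,
      jankoY_val])
  rcases (Set.mem_preimage.1 hx : (x : GL (Fin 7) (ZMod 11)) = jankoX ∨ (x : GL _ _) = jankoY) with h | h
  · rw [show x = g from Subtype.ext (h.trans hX'.symm)]
    exact Subgroup.subset_closure ⟨5, by simp, rfl⟩
  · rw [show x = elt [true] from Subtype.ext (h.trans hY'.symm), ← elt_of_beq hY,
      ← hevl _ (by decide)]
    have hm : ∀ y < 7, lets t a b g y ∈ gen t a b g := fun y hy =>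
      Subgroup.subset_closure ⟨y, hy, rfl⟩
    simp only [evl]
    exact mul_mem (hm 0 (by norm_num)) (mul_mem (hm 6 (by norm_num)) (mul_mem (hm 4 (by norm_num))
      (mul_mem (hm 6 (by norm_num)) (mul_mem (hm 3 (by norm_num)) (mul_mem (hm 5 (by norm_num))
      (mul_mem (hm 2 (by norm_num)) (one_mem _)))))))

theorem isoJ1 {G : Type*} [Group G] [Finite G] [IsSimpleGroup G] (t : G)
    (ht : IsTwoCentralInvolution t)
    (e : Subgroup.centralizer ({t} : Set G) ≃* J1Order.Conc.H5) : IsoJ1 G := by
  haveI := Fintype.ofFinite G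
  have htt : t * t = 1 := by rw [← pow_two, ← ht.1]; exact pow_orderOf_eq_one t
  have ht1 : t ≠ 1 := fun h => absurd (h ▸ ht.1) (by simp)
  have hG : ¬ IsMulCommutative G := by
    intro hc
    obtain ⟨u1, u2, u3, u4, u5, -⟩ := J1Order.Conc.inverters
    have h1 : J1Order.lift t e (J1Order.Conc.ν₃ * J1Order.Conc.ξ * J1Order.Conc.ν₃⁻¹)
        = J1Order.lift t e J1Order.Conc.ξ := by
      rw [map_mul, map_mul, map_inv, hc.is_comm.comm (J1Order.lift t e J1Order.Conc.ν₃), mul_inv_cancel_right]
    rw [u5] at h1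
    exact absurd (J1Order.lift_injective t e h1) (by decide +kernel)
  have hcard := J1Order.card_eq t ht e
  obtain ⟨e', g₁, h7, hM₁⟩ := exists_M hG t ht e
  obtain ⟨g, hg7, hM, hx⟩ := exists_normalised t e' ht h7 hM₁
  have hR := rels t e' ht hg7 hM hx
  obtain ⟨i, hi⟩ := exists_extra t e' ht hG hcard hg7 hM
  set a := J1Order.lift t e' α
  set b := J1Order.lift t e' β
  have hi0 : i = 0 := by
    by_contra hne
    have hcm := commute_of_collapse hR hne hi
    have h := hM 1
    rw [TT_one t e' ht, hcm.symm.eq, mul_inv_cancel_right] at h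
    exact absurd (TT_inj t e' ht ((TT_one t e' ht).trans h)) (by decide)
  subst hi0
  obtain ⟨ts, as, bs, gs, hts, hRs, hEs, htop⟩ := janko_side
  have hboth : ∀ w, evl (lets t a b g) w = 1 → evl (lets ts as bs gs) w = 1 →
      evl (lets (t, ts) (a, as) (b, bs) (g, gs)) w = 1 := by
    intro w h1 h2
    refine Prod.ext ?_ ?_
    · have := map_evl (MonoidHom.fst G J1) (lets (t, ts) (a, as) (b, bs) (g, gs)) w
      simp only [map_lets] at this
      exact this.trans h1
    · have := map_evl (MonoidHom.snd G J1) (lets (t, ts) (a, as) (b, bs) (g, gs)) w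
      simp only [map_lets] at this
      exact this.trans h2
  have hRP : Rels (t, ts) (a, as) (b, bs) (g, gs) :=
    ⟨Prod.ext htt hRs.t2, fun w hw => hboth w (hR.words w hw) (hRs.words w hw)⟩
  set D := gen (t, ts) (a, as) (b, bs) (g, gs)
  obtain ⟨hle, hne0⟩ := card_gen_le hRP (hboth _ hi hEs)
  haveI : Finite D := Nat.finite_of_card_ne_zero hne0
  let π₂ : D →* J1 := (MonoidHom.snd G J1).comp D.subtype
  have hsurj : Function.Surjective π₂ := by
    intro y
    have hmap : D.map (MonoidHom.snd G J1) = ⊤ := by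
      rw [← htop]
      simp only [D, gen, MonoidHom.map_closure, Set.image_image]
      exact congrArg Subgroup.closure (Set.image_congr fun x _ => map_lets _ _ _ _ _ x)
    obtain ⟨d, hd, rfl⟩ := (hmap ▸ Subgroup.mem_top y : y ∈ D.map (MonoidHom.snd G J1))
    exact ⟨⟨d, hd⟩, rfl⟩
  have hbij : Function.Bijective π₂ := by
    refine (Nat.bijective_iff_surjective_and_card _).2 ⟨hsurj, le_antisymm ?_ ?_⟩
    · rw [card_J1]; exact hle
    · exact Nat.card_le_card_of_surjective _ hsurj
  let φ : J1 →* G :=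
    ((MonoidHom.fst G J1).comp D.subtype).comp (MulEquiv.ofBijective π₂ hbij).symm.toMonoidHom
  have hφ : φ ts = t := by
    have : (MulEquiv.ofBijective π₂ hbij).symm ts = ⟨(t, ts), Subgroup.subset_closure ⟨0, by simp, rfl⟩⟩ := by
      rw [MulEquiv.symm_apply_eq]; rfl
    simp only [φ, MonoidHom.comp_apply, MulEquiv.coe_toMonoidHom, this]
    rfl
  haveI : IsSimpleGroup J1 := isJ1.1
  have hinj : Function.Injective φ := by
    rw [← MonoidHom.ker_eq_bot_iff]
    refine (IsSimpleGroup.eq_bot_or_eq_top_of_normal φ.ker inferInstance).resolve_right fun h => ht1 ?_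
    rw [← hφ]
    exact MonoidHom.mem_ker.1 (h ▸ Subgroup.mem_top ts)
  exact ⟨(MulEquiv.ofBijective φ ((Nat.bijective_iff_injective_and_card _).2
    ⟨hinj, by rw [card_J1, hcard]⟩)).symm⟩

/-- An involution of a group with abelian Sylow two-subgroups is two-central. -/
theorem twoCentral {G : Type*} [Group G] [Finite G] (S : Sylow 2 G)
    (hS : IsMulCommutative (S : Subgroup G)) {t : G} (ht : orderOf t = 2) : IsTwoCentralInvolution t := by
  haveI : Fact (Nat.Prime 2) := ⟨Nat.prime_two⟩
  obtain ⟨P, hP⟩ := (IsPGroup.of_card (n := 1) (show Nat.card (Subgroup.zpowers t) = 2 ^ 1 by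
    rw [Nat.card_zpowers, ht, pow_one])).exists_le_sylow
  have htP : t ∈ P := hP (Subgroup.mem_zpowers t)
  refine ⟨ht, P, htP, fun x hx => ?_⟩
  let f := P.equiv S
  have h : (⟨x, hx⟩ : (P : Subgroup G)) * ⟨t, htP⟩ = ⟨t, htP⟩ * ⟨x, hx⟩ :=
    f.injective (by rw [map_mul, map_mul]; exact hS.is_comm.comm _ _)
  exact congrArg Subtype.val h

end CfsgLib.Sporadic.J1Unique
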