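import Cfsg.Agent.Lib.Sporadic.J1Unique.Seven

/-!
# The centraliser of an element of order five, and the last relation
-/

set_option autoImplicit false

open scoped Classical

namespace CfsgLib.Sporadic.J1Unique

open Cfsg CfsgLib CfsgLib.Sporadic.J1Order CfsgLib.Sporadic.J1Order.Conc CfsgLib.Involution.TwoGroupLifts

variable {G : Type*} [Group G] [Fintype G] (t : G)
  (e : Subgroup.centralizer ({t} : Set G) ≃* H5) (ht : IsTwoCentralInvolution t)
include e ht

theorem exists_three [IsSimpleGroup G] (hG : ¬ IsMulCommutative G) (hcard : Nat.card G = 175560) :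
    ∃ r : G, r ^ 3 = 1 ∧ r ≠ 1 ∧ r * lift t e β = lift t e β * r ∧ t * r * t⁻¹ = r⁻¹ ∧
      (r * lift t e (TT 2) = lift t e (TT 2) * r ∨ r * lift t e (TT 3) = lift t e (TT 3) * r) := by
  haveI : Fact (Nat.Prime 2) := ⟨Nat.prime_two⟩
  haveI : Fact (Nat.Prime 3) := ⟨Nat.prime_three⟩
  haveI : Fact (Nat.Prime 5) := ⟨by norm_num⟩
  have htau := lift_tau t e ht.1
  have inj := lift_injective t e
  set y := lift t e β with hy
  set W := Subgroup.centralizer ({y} : Set G) with hW
  have htt : t * t = 1 := by rw [← pow_two, ← ht.1]; exact pow_orderOf_eq_one t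
  have ht1 : t ≠ 1 := fun h => absurd (h ▸ ht.1) (by simp)
  have hty : t * y = y * t := by
    have h := congrArg (lift t e) gens.2.2.2.2.2.1
    rwa [map_mul, map_mul, htau] at h
  have htW : t ∈ W := Subgroup.mem_centralizer_singleton_iff.2 hty
  have hy5 : y ^ 5 = 1 := by rw [hy, ← map_pow, gens.2.1, map_one]
  have hy1 : y ≠ 1 := (map_ne_one_iff _ inj).2 gens.2.2.1
  have hyo : orderOf y = 5 := orderOf_eq_prime hy5 hy1
  have hyW : y ∈ W := Subgroup.mem_centralizer_singleton_iff.2 rfl
  -- the two-part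
  have h4 : ¬ 4 ∣ Nat.card W := by
    intro h4
    have htW' : orderOf (⟨t, htW⟩ : W) = 2 := by rw [← Subgroup.orderOf_coe]; exact ht.1
    obtain ⟨R, hR⟩ := (IsPGroup.of_card (n := 1) (show Nat.card (Subgroup.zpowers (⟨t, htW⟩ : W)) = 2 ^ 1 by
      rw [Nat.card_zpowers, htW', pow_one])).exists_le_sylow
    have hRcard : 4 ∣ Nat.card (R : Subgroup W) := by
      rw [R.card_eq_multiplicity]
      exact dvd_trans (by norm_num) (pow_dvd_pow 2
        ((Nat.prime_two.pow_dvd_iff_le_factorization Nat.card_pos.ne').1 (show 2 ^ 2 ∣ Nat.card W from h4)))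
    set R' := (R : Subgroup W).map W.subtype
    have hsq := exponent_two t e ht (R.isPGroup'.map W.subtype)
    have htR : t ∈ R' := ⟨⟨t, htW⟩, hR (Subgroup.mem_zpowers _), rfl⟩
    have hle : R' ≤ (Subgroup.centralizer ({β} : Set H5)).map (lift t e) := by
      intro a ha
      have h1 := hsq _ (mul_mem ha htR)
      have hcomm : a * t = t * a := by
        calc a * t = a * (a * t * (a * t)) * t := by rw [h1, mul_one]
          _ = (a * a) * (t * a) * (t * t) := by group
          _ = t * a := by rw [hsq a ha, hsq t htR, one_mul, mul_one]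
      obtain ⟨b, rfl⟩ := exists_lift t e hcomm
      obtain ⟨a', -, ha'⟩ := ha
      have hbz := Subgroup.mem_centralizer_singleton_iff.1 (show lift t e b ∈ W from ha' ▸ a'.2)
      exact ⟨b, Subgroup.mem_centralizer_singleton_iff.2 (inj (by simpa [hy] using hbz)), rfl⟩
    have hd := Subgroup.card_dvd_of_le hle
    rw [Subgroup.card_map_of_injective inj, Subgroup.card_map_of_injective W.subtype_injective] at hd
    have h10 : Nat.card (Subgroup.centralizer ({β} : Set H5)) = 10 := by
      rw [← five_facts.2.2.1, Nat.card_eq_fintype_card]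
      refine (Fintype.card_of_subtype _ fun b => ?_)
      simp only [Finset.mem_filter, Finset.mem_univ, true_and, Subgroup.mem_centralizer_singleton_iff]
      exact eq_comm
    rw [h10] at hd
    have := hRcard.trans hd
    norm_num at this
  have h2 : 2 ∣ Nat.card W := by
    have := Subgroup.orderOf_dvd_natCard W htW
    rwa [ht.1] at this
  obtain ⟨K, hK⟩ := CfsgLib.Involution.BrauerFowler.exists_index_two_of_two_odd (G := W) (by omega)
  have hcardK := K.card_mul_index
  rw [hK] at hcardK
  have hKodd : Odd (Nat.card K) := by rw [Nat.odd_iff]; omega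
  set K' := K.map W.subtype with hK'
  have hK'card : Nat.card K' = Nat.card K := Subgroup.card_map_of_injective W.subtype_injective
  have hmemK : ∀ {a : G}, a ∈ K' ↔ a ∈ W ∧ a ^ Nat.card K = 1 := by
    intro a
    constructor
    · rintro ⟨b, hb, rfl⟩
      refine ⟨b.2, ?_⟩
      rw [← map_pow, show b ^ Nat.card K = 1 from orderOf_dvd_iff_pow_eq_one.1 (Subgroup.orderOf_dvd_natCard K hb),
        map_one]
    · rintro ⟨ha, hp⟩
      refine ⟨⟨a, ha⟩, ?_, rfl⟩
      obtain ⟨m, hm⟩ := hKodd
      have : (⟨a, ha⟩ : W) = ((⟨a, ha⟩ : W) ^ 2) ^ (m + 1) := by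
        rw [← pow_mul, show 2 * (m + 1) = Nat.card K + 1 by omega, pow_succ,
          show (⟨a, ha⟩ : W) ^ Nat.card K = 1 from Subtype.ext (by simpa using hp), one_mul]
      rw [this]
      exact pow_mem (Subgroup.sq_mem_of_index_two hK _) _
  set u := lift t e ι with hu
  have huu : u * u = 1 := by rw [hu, ← map_mul, basics.2.2.2.2.2.2.2.2.1, map_one]
  have hu1 : u ≠ 1 := (map_ne_one_iff _ inj).2 basics.2.2.2.2.2.2.2.2.2.2.1
  have hne : t ≠ u := fun h => basics.2.2.2.2.2.2.2.2.2.2.2 (inj (htau.trans h)).symm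
  have htu : t * u = u * t := by
    have h := congrArg (lift t e) basics.2.2.2.2.2.2.2.2.2.1
    rwa [map_mul, map_mul, htau] at h
  set V := fourGroup t u htt huu htu
  have hVy : ∀ v ∈ V, v * y * v⁻¹ = y ∨ v * y * v⁻¹ = y⁻¹ := by
    intro v hv
    have ct : t * y * t⁻¹ = y := by rw [hty, mul_inv_cancel_right]
    have cu : u * y * u⁻¹ = y⁻¹ := by
      rw [hu, hy, ← map_inv, ← map_mul, ← map_mul, five_facts.1, map_inv]
    rcases mem_fourGroup.1 hv with rfl | rfl | rfl | rfl
    · left; group
    · exact Or.inl ct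
    · exact Or.inr cu
    · right
      calc t * u * y * (t * u)⁻¹ = t * (u * y * u⁻¹) * t⁻¹ := by group
        _ = (t * y * t⁻¹)⁻¹ := by rw [cu]; group
        _ = y⁻¹ := by rw [ct]
  have hVN : V ≤ Subgroup.normalizer (K' : Set G) := by
    refine Subgroup.le_normalizer_iff.2 fun v hv k hk => ?_
    obtain ⟨hkW, hkp⟩ := hmemK.1 hk
    refine hmemK.2 ⟨?_, by rw [conj_pow, hkp, mul_one, mul_inv_cancel]⟩
    refine Subgroup.mem_centralizer_singleton_iff.2 ?_
    have hk' : Commute k y := Subgroup.mem_centralizer_singleton_iff.1 hkW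
    have hc : Commute (v * k * v⁻¹) (v * y * v⁻¹) := by
      show v * k * v⁻¹ * (v * y * v⁻¹) = v * y * v⁻¹ * (v * k * v⁻¹)
      calc v * k * v⁻¹ * (v * y * v⁻¹) = v * (k * y) * v⁻¹ := by group
        _ = v * (y * k) * v⁻¹ := by rw [hk'.eq]
        _ = _ := by group
    rcases hVy v hv with h | h <;> rw [h] at hc
    · exact hc
    · exact Commute.inv_right_iff.1 hc
  have hVs : ∀ v ∈ V, v ≠ 1 → orderOf v = 2 := by
    intro v hv h1
    refine orderOf_eq_prime ?_ h1
    rw [pow_two]
    rcases mem_fourGroup.1 hv with rfl | rfl | rfl | rfl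
    · exact one_mul 1
    · exact htt
    · exact huu
    · rw [mul_assoc, ← mul_assoc u, ← htu, mul_assoc t u, huu, mul_one, htt]
  haveI : IsMulCommutative V := ⟨⟨fun p q => Subtype.ext (by
    have hh : ∀ v ∈ V, v * v = 1 := fun v hv => by
      rcases eq_or_ne v 1 with rfl | h
      · exact one_mul 1
      · rw [← pow_two, ← hVs v hv h]; exact pow_orderOf_eq_one v
    have h1 := hh _ (mul_mem p.2 q.2)
    calc (p : G) * q = p * ((p : G) * q * (p * q)) * q := by rw [h1, mul_one]
      _ = ((p : G) * p) * (q * p) * ((q : G) * q) := by group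
      _ = q * p := by rw [hh _ p.2, hh _ q.2, one_mul, mul_one])⟩⟩
  have hVcyc : ¬ IsCyclic V := by
    intro hc
    obtain ⟨g, hg⟩ := hc.exists_generator
    have hcard2 : Nat.card V ≤ 2 := by
      rw [← orderOf_eq_card_of_forall_mem_zpowers hg, ← Subgroup.orderOf_coe]
      rcases eq_or_ne (g : G) 1 with h | h
      · rw [h, orderOf_one]; norm_num
      · exact (hVs _ g.2 h).le
    have h3 : ({1, t, u} : Finset G).card = 3 := by
      rw [Finset.card_insert_of_notMem, Finset.card_pair hne]
      simp only [Finset.mem_insert, Finset.mem_singleton, not_or]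
      exact ⟨ht1.symm, hu1.symm⟩
    have : ({1, t, u} : Finset G).card ≤ Nat.card V := by
      rw [← Nat.card_eq_finsetCard]
      refine Nat.card_le_card_of_injective (fun v => ⟨v.1, ?_⟩) fun v w h => Subtype.ext (congrArg (fun q : V => (q : G)) h)
      have := v.2
      simp only [Finset.mem_insert, Finset.mem_singleton] at this
      exact mem_fourGroup.2 (by tauto)
    omega
  have hV2 : IsPGroup 2 V := fun v => ⟨1, by
    rw [pow_one]
    rcases eq_or_ne (v : G) 1 with h | h
    · exact Subtype.ext (by simp [h])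
    · exact Subtype.ext (by simpa using (hVs v v.2 h) ▸ pow_orderOf_eq_one (v : G))⟩
  have hVcop : (Nat.card V).Coprime (Nat.card K') := by
    obtain ⟨i, hi⟩ := hV2.exists_card_eq
    rw [hi, hK'card]
    exact Nat.Coprime.pow_left _ (Nat.coprime_two_left.2 hKodd)
  have hsolV : Group.IsSolvable V := Group.isSolvable_of_comm fun p q => mul_comm' p q
  -- an invariant Sylow subgroup is generated by the parts centralising involutions
  have inv : ∀ p : ℕ, ∀ [Fact p.Prime], p ∣ Nat.card K →
      ∃ R : Subgroup G, R ≤ K' ∧ IsPGroup p R ∧ V ≤ Subgroup.normalizer (R : Set G) ∧ p ∣ Nat.card R ∧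
        Nat.card R = p ^ (Nat.card K).factorization p ∧
        ∃ v ∈ V, v ≠ 1 ∧ R ⊓ Subgroup.centralizer ({v} : Set G) ≠ ⊥ := by
    intro p _ hp
    obtain ⟨P, hP⟩ := Coprime.exists_invariant_sylow hVN hVcop (Or.inl hsolV) p
    set R := (P : Subgroup K').map K'.subtype with hR
    have hc : Nat.card R = Nat.card (P : Subgroup K') := Subgroup.card_map_of_injective K'.subtype_injective
    have hd : p ∣ Nat.card R := hc ▸ P.dvd_card_of_dvd_card (hK'card ▸ hp)
    have hgen := Coprime.iSup_centralizer_singleton (A := V) (K := R) hVcyc hP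
      (Coprime.coprime_of_le hVcop le_rfl (Subgroup.map_subtype_le _))
    refine ⟨R, Subgroup.map_subtype_le _, P.isPGroup'.map _, hP, hd,
      by rw [hc, P.card_eq_multiplicity, hK'card], ?_⟩
    by_contra h
    have hbot : R = ⊥ := by
      rw [← hgen, eq_bot_iff]
      refine iSup₂_le fun v hv => le_of_eq ?_
      by_contra hv'
      exact h ⟨v, hv.1, hv.2, hv'⟩
    rw [hbot, Subgroup.card_bot, Nat.dvd_one] at hd
    exact (Fact.out : p.Prime).ne_one hd
  have hKdiv : Nat.card K ∣ 175560 / 8 := by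
    have h := Subgroup.card_subgroup_dvd_card K'
    rw [hK'card, hcard, show 175560 = 8 * 21945 by norm_num] at h
    exact ((Nat.coprime_two_right.2 hKodd).pow_right 3).dvd_of_dvd_mul_left h
  have big : ∀ p : ℕ, p.Prime → Nat.Coprime p 120 → ¬ p ∣ Nat.card K := by
    intro p hp hcop hd
    haveI := Fact.mk hp
    obtain ⟨R, -, hR, -, -, -, v, hv, hv1, hne⟩ := inv p hd
    refine hne ?_
    obtain ⟨i, hi⟩ := hR.exists_card_eq
    have h1 := Subgroup.card_dvd_of_le (inf_le_left : R ⊓ Subgroup.centralizer ({v} : Set G) ≤ R)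
    have h2 := Subgroup.card_dvd_of_le (inf_le_right : R ⊓ Subgroup.centralizer ({v} : Set G) ≤ _)
    rw [card_centralizer_involution t e ht hG (hVs v hv hv1)] at h2
    rw [hi] at h1
    exact Subgroup.eq_bot_of_card_eq _ (Nat.eq_one_of_dvd_coprimes (Nat.Coprime.pow_left i hcop) h1 h2)
  have hK15 : Nat.card K ∣ 15 := by
    have hcop : (Nat.card K).Coprime (7 * 11 * 19) := by
      refine Nat.Coprime.mul_right (Nat.Coprime.mul_right ?_ ?_) ?_ <;>
        refine ((Nat.Prime.coprime_iff_not_dvd (by norm_num)).2 (big _ (by norm_num) (by norm_num))).symm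
    refine hcop.dvd_of_dvd_mul_right ?_
    rw [show 15 * (7 * 11 * 19) = 175560 / 8 by norm_num]
    exact hKdiv
  have h5 : 5 ∣ Nat.card K := by
    have h := Subgroup.orderOf_dvd_natCard W hyW
    rw [hyo, ← hcardK] at h
    exact ((Nat.Prime.dvd_mul (by norm_num)).1 h).resolve_right (by norm_num)
  have h3K : 3 ∣ Nat.card K := by
    by_contra h3
    have hK5 : Nat.card K = 5 := by
      obtain ⟨c, hc⟩ := h5
      rw [hc] at hK15 h3 ⊢
      have h' : c ∣ 3 := Nat.dvd_of_mul_dvd_mul_left (by norm_num : 0 < 5) hK15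
      rcases (Nat.dvd_prime Nat.prime_three).1 h' with rfl | rfl
      · rfl
      · exact absurd ⟨5, rfl⟩ h3
    have hW10 : Nat.card W = 10 := by rw [← hcardK, hK5]
    obtain ⟨S, hS⟩ := (IsPGroup.of_card (n := 1) (show Nat.card (Subgroup.zpowers y) = 5 ^ 1 by
      rw [Nat.card_zpowers, hyo, pow_one])).exists_le_sylow
    have hScard : Nat.card (S : Subgroup G) = 5 := by
      rw [S.card_eq_multiplicity, hcard]
      have : (175560).factorization 5 = 1 := by
        have h1 := (Nat.Prime.pow_dvd_iff_le_factorization (p := 5) (k := 1) (n := 175560) (by norm_num)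
          (by norm_num)).1 (by norm_num)
        have h2 := mt (Nat.Prime.pow_dvd_iff_le_factorization (p := 5) (k := 2) (n := 175560) (by norm_num)
          (by norm_num)).2 (by norm_num)
        omega
      rw [this]; norm_num
    have hSy : (S : Subgroup G) = Subgroup.zpowers y :=
      (Subgroup.eq_of_le_of_card_ge hS (by rw [hScard, Nat.card_zpowers, hyo])).symm
    set N := Subgroup.normalizer ((S : Subgroup G) : Set G) with hN
    have huN : u ∈ N := by
      rw [hN, hSy, Subgroup.mem_normalizer_iff]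
      have hz : ∀ s, s ∈ Subgroup.zpowers y → u * s * u⁻¹ ∈ Subgroup.zpowers y := by
        intro s hs
        obtain ⟨k, rfl⟩ := Subgroup.mem_zpowers_iff.1 hs
        rw [← conj_zpow, (hVy u (mem_fourGroup.2 (Or.inr (Or.inr (Or.inl rfl))))).resolve_left ?_]
        · exact zpow_mem (inv_mem (Subgroup.mem_zpowers y)) k
        · rw [hu, hy, ← map_inv, ← map_mul, ← map_mul, five_facts.1]
          intro h
          have := inj h
          revert this
          decide +kernel
      refine fun s => ⟨hz s, fun h => ?_⟩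
      have := hz _ h
      rwa [show u * (u * s * u⁻¹) * u⁻¹ = s by
        rw [inv_eq_of_mul_eq_one_right huu]
        calc u * (u * s * u) * u = (u * u) * s * (u * u) := by group
          _ = s := by rw [huu, one_mul, mul_one]] at this
    have hWN : W ≤ N := by
      intro w hw
      rw [hN, hSy, Subgroup.mem_normalizer_iff]
      have hw' : Commute w y := Subgroup.mem_centralizer_singleton_iff.1 hw
      intro s
      constructor <;> intro hs
      · obtain ⟨k, rfl⟩ := Subgroup.mem_zpowers_iff.1 hs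
        rw [(hw'.zpow_right k).eq, mul_inv_cancel_right]
        exact zpow_mem (Subgroup.mem_zpowers y) k
      · obtain ⟨k, hk⟩ := Subgroup.mem_zpowers_iff.1 hs
        have : s = y ^ k := by
          calc s = w⁻¹ * (w * s * w⁻¹) * w := by group
            _ = w⁻¹ * (y ^ k * w) := by rw [← hk, mul_assoc]
            _ = y ^ k := by rw [← (hw'.zpow_right k).eq, inv_mul_cancel_left]
        rw [this]; exact zpow_mem (Subgroup.mem_zpowers y) k
    let act : MulAction N G := MulAction.compHom G (ConjAct.toConjAct.toMonoidHom.comp N.subtype)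
    have hsm : ∀ (n : N) (g : G), n • g = (n : G) * g * (n : G)⁻¹ := fun n g => rfl
    have hst : Nat.card (MulAction.stabilizer N y) = 10 := by
      rw [← hW10]
      refine Nat.card_congr
        { toFun := fun n => ⟨n.1.1, ?_⟩
          invFun := fun w => ⟨⟨w.1, hWN w.2⟩, ?_⟩
          left_inv := fun n => rfl
          right_inv := fun w => rfl }
      · have h := MulAction.mem_stabilizer_iff.1 n.2
        rw [hsm, mul_inv_eq_iff_eq_mul] at h
        exact Subgroup.mem_centralizer_singleton_iff.2 h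
      · rw [MulAction.mem_stabilizer_iff, hsm, Subgroup.mem_centralizer_singleton_iff.1 w.2, mul_inv_cancel_right]
    have horb : MulAction.orbit N y = {y, y⁻¹} := by
      ext s
      constructor
      · rintro ⟨n, rfl⟩
        show (n : G) * y * (n : G)⁻¹ ∈ ({y, y⁻¹} : Set G)
        have hs : (n : G) * y * (n : G)⁻¹ ∈ Subgroup.zpowers y := by
          have h := (Subgroup.mem_normalizer_iff.1 n.2 y).1 (by rw [hSy]; exact Subgroup.mem_zpowers y)
          rwa [hSy] at h
        obtain ⟨k, hk⟩ := mem_powers_iff_mem_zpowers.2 hs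
        have hk5 : y ^ k = y ^ (k % 5) := by rw [← hyo]; exact (pow_mod_orderOf y k).symm
        have hnot : ∀ j, (j = 2 ∨ j = 3) → (n : G) * y * (n : G)⁻¹ ≠ y ^ j := by
          intro j hj hje
          -- such an element centralises `t`
          have htn : (n : G) * t * (n : G)⁻¹ ∈ W := by
            refine Subgroup.mem_centralizer_singleton_iff.2 ?_
            have hc : Commute ((n : G) * t * (n : G)⁻¹) ((n : G) * y * (n : G)⁻¹) := by
              show (n : G) * t * (n : G)⁻¹ * ((n : G) * y * (n : G)⁻¹) = (n : G) * y * (n : G)⁻¹ * ((n : G) * t * (n : G)⁻¹)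
              calc (n : G) * t * (n : G)⁻¹ * ((n : G) * y * (n : G)⁻¹) = (n : G) * (t * y) * (n : G)⁻¹ := by group
                _ = (n : G) * (y * t) * (n : G)⁻¹ := by rw [hty]
                _ = _ := by group
            rw [hje] at hc
            rcases hj with rfl | rfl
            · have := hc.pow_right 3
              rwa [← pow_mul, show 2 * 3 = 5 + 1 by norm_num, pow_succ, hy5, one_mul] at this
            · have := hc.pow_right 2
              rwa [← pow_mul, show 3 * 2 = 5 + 1 by norm_num, pow_succ, hy5, one_mul] at this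
          have hcomm : t * ((n : G) * t * (n : G)⁻¹) = (n : G) * t * (n : G)⁻¹ * t := by
            have hW' : ∀ w ∈ W, t * w = w * t := by
              have hle : W ≤ Subgroup.centralizer ({t} : Set G) := by
                have hmap : (Subgroup.centralizer ({β} : Set H5)).map (lift t e) ≤ W := by
                  rintro _ ⟨b, hb, rfl⟩
                  refine Subgroup.mem_centralizer_singleton_iff.2 ?_
                  rw [hy, ← map_mul, ← map_mul, Subgroup.mem_centralizer_singleton_iff.1 hb]
                have h10 : Nat.card ((Subgroup.centralizer ({β} : Set H5)).map (lift t e)) = 10 := by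
                  rw [Subgroup.card_map_of_injective inj, ← five_facts.2.2.1, Nat.card_eq_fintype_card]
                  refine (Fintype.card_of_subtype _ fun b => ?_)
                  simp only [Finset.mem_filter, Finset.mem_univ, true_and, Subgroup.mem_centralizer_singleton_iff]
                  exact eq_comm
                rw [← Subgroup.eq_of_le_of_card_ge hmap (by rw [hW10, h10])]
                rintro _ ⟨b, -, rfl⟩
                exact (e.symm b).2
              exact fun w hw => (Subgroup.mem_centralizer_singleton_iff.1 (hle hw)).symm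
            exact hW' _ htn
          obtain ⟨b, hb⟩ := exists_lift t e hcomm.symm
          have hbc : b * β = β * b := inj (by
            rw [map_mul, map_mul, hb]; exact Subgroup.mem_centralizer_singleton_iff.1 htn)
          have hbb : b * b = 1 := inj (by
            rw [map_mul, hb, map_one, conj_mul, htt, mul_one, mul_inv_cancel])
          rcases five_facts.2.2.2.1 b hbc hbb with rfl | rfl
          · rw [map_one, eq_comm, conj_eq_one_iff] at hb; exact ht1 hb
          rw [htau, eq_comm, mul_inv_eq_iff_eq_mul] at hb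
          obtain ⟨c, hc⟩ := exists_lift t e hb
          rw [← hc, hy, ← map_inv, ← map_mul, ← map_mul, ← map_pow] at hje
          rcases hj with rfl | rfl
          · exact (five_facts.2.2.2.2.2 c).1 (inj hje)
          · exact (five_facts.2.2.2.2.2 c).2 (inj hje)
        have hk' : (n : G) * y * (n : G)⁻¹ = y ^ (k % 5) := by rw [← hk5]; exact hk.symm
        rcases (show k % 5 = 0 ∨ k % 5 = 1 ∨ k % 5 = 2 ∨ k % 5 = 3 ∨ k % 5 = 4 by omega) with h | h | h | h | h <;>
          rw [h] at hk'
        · rw [pow_zero, conj_eq_one_iff] at hk'; exact absurd hk' hy1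
        · left; rw [hk', pow_one]
        · exact absurd hk' (hnot 2 (Or.inl rfl))
        · exact absurd hk' (hnot 3 (Or.inr rfl))
        · right
          show _ = y⁻¹
          rw [hk']; refine eq_inv_of_mul_eq_one_left ?_
          rw [← pow_succ]; exact hy5
      · rintro (rfl | rfl)
        · exact MulAction.mem_orbit_self _
        · refine ⟨⟨u, huN⟩, ?_⟩
          show u * y * u⁻¹ = y⁻¹
          rw [hu, hy, ← map_inv, ← map_mul, ← map_mul, five_facts.1, map_inv]
    have hNcard : Nat.card N = 20 := by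
      have h := (MulAction.stabilizer N y).card_mul_index
      rw [MulAction.index_stabilizer, horb, Set.ncard_pair ?_, hst] at h
      · omega
      · intro h
        have h' : y ^ 2 = 1 := by rw [pow_two]; nth_rewrite 1 [h]; exact inv_mul_cancel y
        have := orderOf_dvd_of_pow_eq_one h'
        rw [hyo] at this; norm_num at this
    have hn5 := card_sylow_modEq_one 5 G
    have hmul := N.card_mul_index
    rw [Sylow.card_eq_index_normalizer S] at hn5
    change N.index ≡ 1 [MOD 5] at hn5
    rw [hNcard, hcard] at hmul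
    rw [show N.index = 8778 by omega] at hn5
    norm_num [Nat.ModEq] at hn5
  obtain ⟨R, hRK, -, hVR, hR3, hRc, v, hv, hv1, hne⟩ := inv 3 h3K
  have hR : Nat.card R = 3 := by
    have hle : (Nat.card K).factorization 3 ≤ 1 := by
      by_contra h
      have := (dvd_trans (pow_dvd_pow 3 (show 2 ≤ (Nat.card K).factorization 3 by omega))
        (Nat.ordProj_dvd _ _)).trans hK15
      norm_num at this
    rw [hRc] at hR3 ⊢
    interval_cases h : (Nat.card K).factorization 3 <;> simp_all
  have hRv : R ≤ Subgroup.centralizer ({v} : Set G) := by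
    have h1 := Subgroup.card_dvd_of_le (inf_le_left : R ⊓ Subgroup.centralizer ({v} : Set G) ≤ R)
    rw [hR] at h1
    rcases (Nat.dvd_prime Nat.prime_three).1 h1 with h | h
    · exact absurd (Subgroup.eq_bot_of_card_eq _ h) hne
    · exact inf_eq_left.1 (Subgroup.eq_of_le_of_card_ge inf_le_left (by rw [h, hR]))
  obtain ⟨⟨r, hrR⟩, hr⟩ := exists_prime_orderOf_dvd_card' (G := R) 3 hR3
  rw [← Subgroup.orderOf_coe] at hr
  change orderOf r = 3 at hr
  have hr3 : r ^ 3 = 1 := hr ▸ pow_orderOf_eq_one r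
  have hr1 : r ≠ 1 := fun h => by rw [h, orderOf_one] at hr; norm_num at hr
  have hry : r * y = y * r := Subgroup.mem_centralizer_singleton_iff.1 (hmemK.1 (hRK hrR)).1
  have hrt : ¬ r * t = t * r := fun h => by
    obtain ⟨b, hb⟩ := exists_lift t e h
    refine hr1 ?_
    rw [← hb, five_facts.2.2.2.2.1 b (inj (by rw [map_mul, map_mul, hb]; exact hry))
      (inj (by rw [map_mul, map_mul, hb, map_one, mul_assoc, ← pow_three, hr3])), map_one]
  have hRz : R = Subgroup.zpowers r := (Subgroup.eq_of_le_of_card_ge (Subgroup.zpowers_le.2 hrR)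
    (by rw [hR, Nat.card_zpowers, hr])).symm
  refine ⟨r, hr3, hr1, hry, ?_, ?_⟩
  · have h : t * r * t⁻¹ ∈ R := (Subgroup.le_normalizer_iff.1 hVR) t (mem_fourGroup.2 (Or.inr (Or.inl rfl))) r hrR
    rw [hRz] at h
    obtain ⟨k, hk⟩ := mem_powers_iff_mem_zpowers.2 h
    have hk3 : r ^ k = r ^ (k % 3) := by rw [← hr]; exact (pow_mod_orderOf r k).symm
    change r ^ k = t * r * t⁻¹ at hk
    rw [hk3] at hk
    rcases (show k % 3 = 0 ∨ k % 3 = 1 ∨ k % 3 = 2 by omega) with h0 | h0 | h0 <;> rw [h0] at hk
    · rw [pow_zero, eq_comm, conj_eq_one_iff] at hk; exact absurd hk hr1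
    · rw [pow_one, eq_comm, mul_inv_eq_iff_eq_mul] at hk; exact absurd hk.symm hrt
    · rw [← hk]; refine eq_inv_of_mul_eq_one_left ?_
      rw [← pow_succ]; exact hr3
  · have hrv := Subgroup.mem_centralizer_singleton_iff.1 (hRv hrR)
    rcases mem_fourGroup.1 hv with rfl | rfl | rfl | rfl
    · exact absurd rfl hv1
    · exact absurd hrv hrt
    · right; rw [TT_facts.2.2.2.1]; exact hrv
    · left; rw [TT_facts.2.2.1, map_mul, htau]; exact hrv

theorem exists_extra [IsSimpleGroup G] (hG : ¬ IsMulCommutative G) (hcard : Nat.card G = 175560) {g : G}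
    (h7 : g ^ 7 = 1) (hM : ∀ m, g * lift t e (TT m) * g⁻¹ = lift t e (TT (M m))) :
    ∃ i : Fin 4, evl (lets t (lift t e α) (lift t e β) g) (extraWord i) = 1 := by
  obtain ⟨r, hr3, hr1, hry, hrt, hrv⟩ := exists_three t e ht hG hcard
  set a := lift t e α with ha
  set b := lift t e β with hb
  have inj := lift_injective t e
  have hpow : ∀ k m, g ^ k * lift t e (TT m) * (g ^ k)⁻¹ = lift t e (TT (iter M k m)) := by
    intro k
    induction k with
    | zero => intro m; simp [iter]
    | succ k ih =>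
      intro m
      rw [pow_succ']
      calc g * g ^ k * lift t e (TT m) * (g * g ^ k)⁻¹ = g * (g ^ k * lift t e (TT m) * (g ^ k)⁻¹) * g⁻¹ := by group
        _ = _ := by rw [ih m, hM]; rfl
  have main : ∀ i : ℕ, i ≤ 7 → r * lift t e (TT (iter M i 1)) = lift t e (TT (iter M i 1)) * r →
      ∃ h : H5, h * h * h = 1 ∧ h ≠ 1 ∧ TT (iter M (7 - i) 1) * h * (TT (iter M (7 - i) 1))⁻¹ = h⁻¹ ∧
        ∀ c : H5, (c = h ∨ c = h⁻¹) → g ^ i * lift t e c * (g ^ i)⁻¹ * b = b * (g ^ i * lift t e c * (g ^ i)⁻¹) := by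
    intro i hi hc
    have hgi : g ^ (7 - i) = (g ^ i)⁻¹ := by
      refine eq_inv_of_mul_eq_one_left ?_
      rw [← pow_add, Nat.sub_add_cancel hi, h7]
    have hc' : (g ^ i)⁻¹ * r * g ^ i * t = t * ((g ^ i)⁻¹ * r * g ^ i) := by
      rw [← hpow, TT_one t e ht] at hc
      calc (g ^ i)⁻¹ * r * g ^ i * t = (g ^ i)⁻¹ * (r * (g ^ i * t * (g ^ i)⁻¹)) * g ^ i := by group
        _ = (g ^ i)⁻¹ * (g ^ i * t * (g ^ i)⁻¹ * r) * g ^ i := by rw [hc]
        _ = t * ((g ^ i)⁻¹ * r * g ^ i) := by group
    obtain ⟨h, hh⟩ := exists_lift t e hc'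
    have hT : lift t e (TT (iter M (7 - i) 1)) = (g ^ i)⁻¹ * t * g ^ i := by
      rw [← hpow, TT_one t e ht, hgi, inv_inv]
    refine ⟨h, inj ?_, fun h0 => hr1 ?_, inj ?_, ?_⟩
    · rw [map_one, map_mul, map_mul, hh]
      calc (g ^ i)⁻¹ * r * g ^ i * ((g ^ i)⁻¹ * r * g ^ i) * ((g ^ i)⁻¹ * r * g ^ i)
          = (g ^ i)⁻¹ * r ^ 3 * g ^ i := by rw [pow_three]; group
        _ = 1 := by rw [hr3]; group
    · rw [h0, map_one] at hh
      calc r = g ^ i * ((g ^ i)⁻¹ * r * g ^ i) * (g ^ i)⁻¹ := by group
        _ = 1 := by rw [← hh]; group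
    · rw [map_mul, map_mul, map_inv, map_inv, hh, hT]
      calc (g ^ i)⁻¹ * t * g ^ i * ((g ^ i)⁻¹ * r * g ^ i) * ((g ^ i)⁻¹ * t * g ^ i)⁻¹
          = (g ^ i)⁻¹ * (t * r * t⁻¹) * g ^ i := by group
        _ = _ := by rw [hrt]; group
    · rintro c (rfl | rfl)
      · rw [hh, show g ^ i * ((g ^ i)⁻¹ * r * g ^ i) * (g ^ i)⁻¹ = r by group]; exact hry
      · rw [map_inv, hh, show g ^ i * ((g ^ i)⁻¹ * r * g ^ i)⁻¹ * (g ^ i)⁻¹ = r⁻¹ by group]
        exact (show Commute r b from hry).inv_left.eq
  have word : ∀ (i : ℕ) (c : G), g ^ i * c * (g ^ i)⁻¹ * b = b * (g ^ i * c * (g ^ i)⁻¹) →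
      g ^ i * c * (g ^ i)⁻¹ * b * (g ^ i * c⁻¹ * (g ^ i)⁻¹) * b⁻¹ = 1 := fun i c h => by rw [h]; group
  rcases hrv with h | h
  · obtain ⟨c, h1, h2, h3, h4⟩ := main 1 (by norm_num) (by rw [M_facts.2.2.2.2.1]; exact h)
    have hρ : (∃ j : Fin 4, (j = 0 ∨ j = 1) ∧ (ρ j = c ∨ ρ j = c⁻¹)) := by
      rcases (inverted c h1 h2).1 h3 with h | h | h | h
      · exact ⟨0, Or.inl rfl, Or.inl h.symm⟩
      · exact ⟨0, Or.inl rfl, Or.inr (by rw [h, inv_inv])⟩
      · exact ⟨1, Or.inr rfl, Or.inl h.symm⟩
      · exact ⟨1, Or.inr rfl, Or.inr (by rw [h, inv_inv])⟩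
    obtain ⟨j, hj, hjc⟩ := hρ
    refine ⟨j, ?_⟩
    have hw := word 1 _ (h4 _ hjc)
    rcases hj with rfl | rfl <;> simp [ρ, ← ha, ← hb, pow_succ, mul_assoc] at hw <;>
      simpa [extraWord, evl, lets, mul_assoc] using hw
  · obtain ⟨c, h1, h2, h3, h4⟩ := main 5 (by norm_num) (by rw [M_facts.2.2.2.2.2.1]; exact h)
    have hρ : (∃ j : Fin 4, (j = 2 ∨ j = 3) ∧ (ρ j = c ∨ ρ j = c⁻¹)) := by
      rcases (inverted c h1 h2).2 h3 with h | h | h | h
      · exact ⟨2, Or.inl rfl, Or.inl h.symm⟩
      · exact ⟨2, Or.inl rfl, Or.inr (by rw [h, inv_inv])⟩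
      · exact ⟨3, Or.inr rfl, Or.inl h.symm⟩
      · exact ⟨3, Or.inr rfl, Or.inr (by rw [h, inv_inv])⟩
    obtain ⟨j, hj, hjc⟩ := hρ
    refine ⟨j, ?_⟩
    have hw := word 5 _ (h4 _ hjc)
    rcases hj with rfl | rfl <;> simp [ρ, ← ha, ← hb, pow_succ, mul_assoc] at hw <;>
      simpa [extraWord, evl, lets, mul_assoc] using hw

end CfsgLib.Sporadic.J1Unique
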