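import Cfsg.Agent.Lib.Sporadic.J1Order.Concrete

/-!
# Computations in the elementary group of order eight and in its extension by a group of order seven
-/

set_option autoImplicit false
set_option synthInstance.maxSize 4000
set_option synthInstance.maxHeartbeats 200000

namespace CfsgLib.Sporadic.J1Unique

open CfsgLib.Sporadic.J1Order.Conc

/-- An element of order three. -/
def α : H5 := (1, ⟨Equiv.swap (1 : Fin 5) 2 * Equiv.swap 2 4, by rw [Equiv.Perm.mem_alternatingGroup]; decide⟩)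

/-- An element of order five. -/
def β : H5 := (1, ⟨Equiv.swap (0 : Fin 5) 1 * Equiv.swap 1 3 * Equiv.swap 3 4 * Equiv.swap 4 2,
  by rw [Equiv.Perm.mem_alternatingGroup]; decide⟩)

/-- The second coordinate element of the four-group. -/
def ι₂ : H5 := (1, ⟨Equiv.swap (0 : Fin 5) 3 * Equiv.swap 1 2, by rw [Equiv.Perm.mem_alternatingGroup]; decide⟩)

/-- The elementary group, indexed by three bits. -/
def TT (n : Fin 8) : H5 :=
  (if n.val % 2 = 1 then τ else 1) * (if n.val / 2 % 2 = 1 then τ * ι else 1) *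
    (if n.val / 4 = 1 then τ * ι₂ else 1)

/-- Addition of three bit vectors. -/
def xor8 (n m : Fin 8) : Fin 8 :=
  ⟨(n.val % 2 + m.val % 2) % 2 + 2 * ((n.val / 2 % 2 + m.val / 2 % 2) % 2)
    + 4 * ((n.val / 4 + m.val / 4) % 2), by omega⟩

/-- The action of the element of order seven. -/
def M : Fin 8 → Fin 8 := ![0, 2, 4, 6, 5, 7, 1, 3]

/-- The action of `ξ`. -/
def X : Fin 8 → Fin 8 := ![0, 1, 4, 5, 7, 6, 3, 2]

/-- The action of `ξ⁻¹`. -/
def Xi : Fin 8 → Fin 8 := ![0, 1, 7, 6, 2, 3, 5, 4]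

/-- An automorphism of the centraliser, odd on the five points. -/
def Q : Fin 8 → Fin 8 := ![0, 1, 2, 3, 7, 6, 5, 4]

/-- The other possible action. -/
def M' : Fin 8 → Fin 8 := fun n => Q (M (Q n))

/-- Powers of a map. -/
def iter (f : Fin 8 → Fin 8) : ℕ → Fin 8 → Fin 8
  | 0 => id
  | k + 1 => fun n => f (iter f k n)

theorem TT_mul : ∀ n m : Fin 8, TT (xor8 n m) = TT n * TT m := by decide +kernel

theorem TT_facts : TT 0 = 1 ∧ TT 1 = τ ∧ TT 2 = τ * ι ∧ TT 3 = ι ∧ (∀ n, TT n = 1 → n = 0) ∧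
    (∀ n, ξ * TT n * ξ⁻¹ = TT (X n)) ∧ (∀ n, X (Xi n) = n) ∧ (∀ n, Q (Q n) = n) := by
  refine ⟨?_, ?_, ?_, ?_, ?_, ?_, ?_, ?_⟩ <;> decide +kernel

theorem TT_cover : (∀ h : H5, ι * h = h * ι → ∃ n, TT n = h) ∧ ∀ n, ι * TT n = TT n * ι := by
  refine ⟨?_, ?_⟩ <;> decide +kernel

theorem TT_aut : ∀ n, (Equiv.swap (0 : Fin 5) 1) * ((TT n).2 : Equiv.Perm (Fin 5)) * Equiv.swap 0 1
    = ((TT (Q n)).2 : Equiv.Perm (Fin 5)) ∧ (TT n).1 = (TT (Q n)).1 := by decide +kernel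

/-- The linear extension of three images, as a list. -/
def lin (u v w : Fin 8) : List (Fin 8) :=
  (List.finRange 8).map fun n => xor8 (xor8 (if n.val % 2 = 1 then u else 0)
    (if n.val / 2 % 2 = 1 then v else 0)) (if n.val / 4 = 1 then w else 0)

/-- A map given by a list. -/
def ofList (l : List (Fin 8)) (n : Fin 8) : Fin 8 := l.getD n.val 0

/-- The criterion. -/
def crit (u v w : Fin 8) : Bool :=
  let f := ofList (lin u v w)
  let g := ofList ((List.finRange 8).map fun n => X (f (Xi n)))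
  let same := fun (p q : Fin 8 → Fin 8) => (List.finRange 8).all fun n => p n == q n
  !(same (iter f 7) id && !same f id && (List.range 7).all fun i => (List.range 7).all fun j =>
      let h := ofList ((List.finRange 8).map fun n => iter f i (iter g j n))
      !same (iter h 4) id || same h id)
    || (List.range 7).any fun k => same (iter f k) M || same (iter f k) M'

theorem crit_all : ∀ u v w : Fin 8, crit u v w = true := by decide +kernel

/-- Multiplication of normal forms `g ^ a * u`. -/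
def mulE (p q : Fin 7 × Fin 8) : Fin 7 × Fin 8 :=
  (p.1 + q.1, xor8 (iter M (7 - q.1.val) p.2) q.2)

/-- Powers of normal forms. -/
def powE (p : Fin 7 × Fin 8) : ℕ → Fin 7 × Fin 8
  | 0 => (0, 0)
  | k + 1 => mulE (powE p k) p

/-- Conjugation by `ξ`, given the image `g ^ 2 * s` of `g`. -/
def conjE (s : Fin 8) (p : Fin 7 × Fin 8) : Fin 7 × Fin 8 := mulE (powE (2, s) p.1.val) (0, X p.2)

theorem normalise : ∀ s, conjE s (conjE s (conjE s (1, 0))) = (1, 0) →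
    ∃ v, conjE s (1, v) = mulE (1, v) (1, v) := by decide +kernel

theorem conjE_fst : ∀ s, (conjE s (conjE s (conjE s (1, 0)))).1 = 1 := by decide +kernel

theorem powE_seven : ∀ v, powE (1, v) 7 = (0, 0) := by decide +kernel

theorem M_facts : (∀ n, iter M 7 n = n) ∧ (∀ n, M n = n → n = 0) ∧
    (∀ n, X (M (Xi n)) = iter M 2 n) ∧ (∀ n m, M (xor8 n m) = xor8 (M n) (M m)) ∧
    iter M 1 1 = 2 ∧ iter M 5 1 = 3 ∧ iter M 6 1 = iter M 6 1 := by
  refine ⟨?_, ?_, ?_, ?_, ?_, ?_, ?_⟩ <;> decide +kernel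

/-- The elements of order three of the two kinds. -/
def ρ : Fin 4 → H5 := ![β * α ^ 2 * β ^ 3 * α, β * α ^ 2 * β ^ 2 * α ^ 2, α, α * β ^ 2]

theorem inverted : ∀ r : H5, r * r * r = 1 → r ≠ 1 →
    (TT (iter M 6 1) * r * (TT (iter M 6 1))⁻¹ = r⁻¹ → r = ρ 0 ∨ r = (ρ 0)⁻¹ ∨ r = ρ 1 ∨ r = (ρ 1)⁻¹) ∧
    (TT (iter M 2 1) * r * (TT (iter M 2 1))⁻¹ = r⁻¹ → r = ρ 2 ∨ r = (ρ 2)⁻¹ ∨ r = ρ 3 ∨ r = (ρ 3)⁻¹) := by
  decide +kernel

theorem gens : α ^ 3 = 1 ∧ β ^ 5 = 1 ∧ β ≠ 1 ∧ (α * β) ^ 2 = 1 ∧ τ * α = α * τ ∧ τ * β = β * τ ∧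
    τ * (α * α * β * β * α * α * β * β * α) = TT 2 ∧ τ * (β * α * α * β * β * α * α * β * β) = TT 4 ∧
    α * β * α * α * β * β * α * α = ξ ∧ TT 5 = τ * TT 4 := by
  refine ⟨?_, ?_, ?_, ?_, ?_, ?_, ?_, ?_, ?_, ?_⟩ <;> decide +kernel

theorem five_facts : ι * β * ι⁻¹ = β⁻¹ ∧ (Finset.univ.filter fun b : H5 => τ * β * b = b * (τ * β)).card = 10 ∧
    (Finset.univ.filter fun b : H5 => β * b = b * β).card = 10 ∧
    (∀ b : H5, b * β = β * b → b * b = 1 → b = 1 ∨ b = τ) ∧ (∀ b : H5, b * β = β * b → b * b * b = 1 → b = 1) ∧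
    (∀ b : H5, b * β * b⁻¹ ≠ β ^ 2 ∧ b * β * b⁻¹ ≠ β ^ 3) := by
  refine ⟨?_, ?_, ?_, ?_, ?_, ?_⟩ <;> decide +kernel

end CfsgLib.Sporadic.J1Unique
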