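import Cfsg.Agent.Lib.Sporadic.J1Order.SevenFree
import Cfsg.Agent.Lib.Sporadic.J1Unique.Table

/-!
# An element of order seven normalising the elementary group of order eight
-/

set_option autoImplicit false

open scoped Classical

namespace CfsgLib.Sporadic.J1Unique

open Cfsg CfsgLib CfsgLib.Sporadic.J1Order CfsgLib.Sporadic.J1Order.Conc

variable {G : Type*} [Group G] [Fintype G] (t : G)
  (e : Subgroup.centralizer ({t} : Set G) ≃* H5) (ht : IsTwoCentralInvolution t)
include e ht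

/-- The elementary group in `G`. -/
theorem mem_sylow2_iff (s : G) : s ∈ sylow2 t e ↔ ∃ n, lift t e (TT n) = s := by
  constructor
  · rintro ⟨h, hh, rfl⟩
    obtain ⟨n, rfl⟩ := TT_cover.1 h (Subgroup.mem_centralizer_singleton_iff.1 hh).symm
    exact ⟨n, rfl⟩
  · rintro ⟨n, rfl⟩
    exact ⟨TT n, Subgroup.mem_centralizer_singleton_iff.2 (TT_cover.2 n).symm, rfl⟩

theorem TT_one : lift t e (TT 1) = t := by rw [TT_facts.2.1, lift_tau t e ht.1]

theorem TT_inj {m n : Fin 8} (h : lift t e (TT m) = lift t e (TT n)) : m = n := by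
  have hinj := lift_injective t e h
  have x1 : ∀ a b : Fin 8, xor8 a a = 0 ∧ (xor8 a b = 0 → a = b) := by decide
  have h0 : TT (xor8 m n) = 1 := by
    rw [TT_mul, hinj, ← TT_mul, (x1 n n).1, TT_facts.1]
  exact (x1 m n).2 (TT_facts.2.2.2.2.1 _ h0)

theorem cent_sylow2 {n : G} (h : ∀ m, n * lift t e (TT m) * n⁻¹ = lift t e (TT m)) : n ∈ sylow2 t e := by
  have h1 := h 1
  rw [TT_one t e ht, mul_inv_eq_iff_eq_mul] at h1
  obtain ⟨b, rfl⟩ := exists_lift t e h1
  have h3 := h 3
  rw [TT_facts.2.2.2.1, ← map_inv, ← map_mul, ← map_mul] at h3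
  refine ⟨b, Subgroup.mem_centralizer_singleton_iff.2 ?_, rfl⟩
  exact mul_inv_eq_iff_eq_mul.1 (lift_injective t e h3)

/-- An element of odd effect on the elementary group: no element of order two or four. -/
theorem no_two_action {P : Sylow 2 G} (hP : (P : Subgroup G) = sylow2 t e) {n : G}
    (hn : n ∈ Subgroup.normalizer ((P : Subgroup G) : Set G))
    (h4 : ∀ m, n ^ 4 * lift t e (TT m) * (n ^ 4)⁻¹ = lift t e (TT m)) (m : Fin 8) :
    n * lift t e (TT m) * n⁻¹ = lift t e (TT m) := by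
  haveI : Fact (Nat.Prime 2) := ⟨Nat.prime_two⟩
  obtain ⟨-, hsq, hcomm⟩ := sylow2_facts t e ht
  have h32 : n ^ 8 = 1 := by
    rw [show 8 = 4 * 2 by norm_num, pow_mul, pow_two]
    exact hsq _ (cent_sylow2 t e ht h4)
  have hQ : IsPGroup 2 ((Subgroup.zpowers n) ⊔ (P : Subgroup G) : Subgroup G) := by
    refine IsPGroup.to_sup_of_normal_right' ?_ P.2 (Subgroup.zpowers_le.2 hn)
    intro g
    refine ⟨3, Subtype.ext ?_⟩
    obtain ⟨i, hi⟩ := Subgroup.mem_zpowers_iff.1 g.2
    rw [SubmonoidClass.coe_pow, ← hi, ← zpow_natCast, ← zpow_mul, mul_comm, zpow_mul, zpow_natCast,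
      show 2 ^ 3 = 8 by norm_num, h32, one_zpow]
    rfl
  have hmem : n ∈ (P : Subgroup G) := by
    rw [← P.3 hQ le_sup_right]
    exact Subgroup.mem_sup_left (Subgroup.mem_zpowers n)
  rw [hP] at hmem
  rw [hcomm _ hmem _ ((mem_sylow2_iff t e ht _).2 ⟨m, rfl⟩), mul_inv_cancel_right]

/-- An element of order seven of the normaliser, acting as `M` or as `M'`. -/
theorem exists_seven [IsSimpleGroup G] (hG : ¬ IsMulCommutative G) :
    ∃ g : G, orderOf g = 7 ∧ ((∀ m, g * lift t e (TT m) * g⁻¹ = lift t e (TT (M m))) ∨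
      (∀ m, g * lift t e (TT m) * g⁻¹ = lift t e (TT (M' m)))) := by
  haveI : Fact (Nat.Prime 2) := ⟨Nat.prime_two⟩
  haveI : Fact (Nat.Prime 7) := ⟨by norm_num⟩
  obtain ⟨P, hP⟩ := exists_sylow2 t e ht
  obtain ⟨hcard, hsq, hcomm⟩ := sylow2_facts t e ht
  haveI : IsMulCommutative (P : Subgroup G) :=
    ⟨⟨fun a b => Subtype.ext (hcomm _ (hP ▸ a.2) _ (hP ▸ b.2))⟩⟩
  have memP : ∀ m, lift t e (TT m) ∈ (P : Subgroup G) := fun m => hP ▸ (mem_sylow2_iff t e ht _).2 ⟨m, rfl⟩
  set N := Subgroup.normalizer ((P : Subgroup G) : Set G) with hN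
  have h7 : 7 ∣ Nat.card N := by
    let act : MulAction N G := MulAction.compHom G (ConjAct.toConjAct.toMonoidHom.comp N.subtype)
    have hsm : ∀ (n : N) (g : G), n • g = (n : G) * g * (n : G)⁻¹ := fun n g => rfl
    have horb : MulAction.orbit N t = ((fun m => lift t e (TT m)) '' ((Finset.univ.erase 0 : Finset (Fin 8)) : Set (Fin 8))) := by
      ext x
      constructor
      · rintro ⟨n, rfl⟩
        have hx : (n : G) * t * (n : G)⁻¹ ∈ sylow2 t e := hP ▸ (Subgroup.mem_normalizer_iff.1 n.2 t).1 (by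
          rw [← TT_one t e ht]; exact memP 1)
        obtain ⟨m, hm⟩ := (mem_sylow2_iff t e ht _).1 hx
        refine ⟨m, Finset.mem_erase.2 ⟨?_, Finset.mem_univ m⟩, hm⟩
        rintro rfl
        rw [TT_facts.1, map_one, eq_comm, conj_eq_one_iff] at hm
        exact absurd (hm ▸ ht.1) (by simp)
      · rintro ⟨m, hm, rfl⟩
        have hne : lift t e (TT m) ≠ 1 := fun h => (Finset.mem_erase.1 hm).1
          (TT_inj t e ht (by rw [h, TT_facts.1, map_one]))
        obtain ⟨c, hc⟩ := isConj_iff.1 (all_conj t e ht hG _ (orderOf_eq_prime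
          (by rw [pow_two]; exact hsq _ (hP ▸ memP m)) hne))
        have htP : t ∈ (P : Subgroup G) := TT_one t e ht ▸ memP 1
        obtain ⟨n, hn, he⟩ := Sylow.conj_eq_normalizer_conj_of_mem P t c⁻¹ htP
          (by rw [inv_inv, hc]; exact memP m)
        refine ⟨⟨n⁻¹, inv_mem hn⟩, ?_⟩
        show n⁻¹ * t * n⁻¹⁻¹ = lift t e (TT m)
        rw [inv_inv, ← he, inv_inv, hc]
    have h := MulAction.index_stabilizer N t
    rw [horb, Set.ncard_image_of_injective _ (fun a b => TT_inj t e ht), Set.ncard_coe_finset] at h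
    rw [show (Finset.univ.erase (0 : Fin 8)).card = 7 by decide] at h
    exact h ▸ Subgroup.index_dvd_card _
  obtain ⟨g₀, hg₀⟩ := exists_prime_orderOf_dvd_card' (G := N) 7 h7
  rw [← Subgroup.orderOf_coe] at hg₀
  set g : G := (g₀ : G) with hgdef
  have hgN : g ∈ N := g₀.2
  -- the map induced
  have hφ : ∀ (n : G), n ∈ N → ∀ m, ∃ m', n * lift t e (TT m) * n⁻¹ = lift t e (TT m') := fun n hn m => by
    obtain ⟨m', hm'⟩ := (mem_sylow2_iff t e ht _).1 (hP ▸ (Subgroup.mem_normalizer_iff.1 hn _).1 (memP m))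
    exact ⟨m', hm'.symm⟩
  choose f hf using hφ g hgN
  have hlin : ∀ m, f m = ofList (lin (f 1) (f 2) (f 4)) m := by
    have hadd : ∀ a b, f (xor8 a b) = xor8 (f a) (f b) := fun a b => TT_inj t e ht (by
      rw [TT_mul, map_mul, ← hf, ← hf, ← hf, TT_mul, map_mul, conj_mul])
    have h0 : f 0 = 0 := TT_inj t e ht (by rw [← hf, TT_facts.1, map_one, mul_one, mul_inv_cancel])
    have hdec : ∀ m : Fin 8, m = xor8 (xor8 (if m.val % 2 = 1 then 1 else 0)
        (if m.val / 2 % 2 = 1 then 2 else 0)) (if m.val / 4 = 1 then 4 else 0) := by decide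
    have hl : ∀ (u v w : Fin 8) (m : Fin 8), ofList (lin u v w) m = xor8 (xor8 (if m.val % 2 = 1 then u else 0)
        (if m.val / 2 % 2 = 1 then v else 0)) (if m.val / 4 = 1 then w else 0) := fun u v w m => by
      simp [ofList, lin, List.getD_eq_getElem?_getD]
    intro m
    rw [hl]
    conv_lhs => rw [hdec m, hadd, hadd]
    split_ifs <;> simp [h0]
  set f' := ofList (lin (f 1) (f 2) (f 4)) with hf'
  have hg : ∀ m, g * lift t e (TT m) * g⁻¹ = lift t e (TT (f' m)) := fun m => by rw [← hlin, hf]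
  have hpow : ∀ (k : ℕ) (n : G) (φ : Fin 8 → Fin 8), (∀ m, n * lift t e (TT m) * n⁻¹ = lift t e (TT (φ m))) →
      ∀ m, n ^ k * lift t e (TT m) * (n ^ k)⁻¹ = lift t e (TT (iter φ k m)) := by
    intro k n φ hn
    induction k with
    | zero => intro m; simp [iter]
    | succ k ih =>
      intro m
      rw [pow_succ']
      calc n * n ^ k * lift t e (TT m) * (n * n ^ k)⁻¹ = n * (n ^ k * lift t e (TT m) * (n ^ k)⁻¹) * n⁻¹ := by group
        _ = _ := by rw [ih m, hn]; rfl
  set x := lift t e ξ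
  have hxX : ∀ m, x * lift t e (TT m) * x⁻¹ = lift t e (TT (X m)) := fun m => by
    rw [← map_inv, ← map_mul, ← map_mul, TT_facts.2.2.2.2.2.1]
  have hxi : ∀ m, x⁻¹ * lift t e (TT m) * x = lift t e (TT (Xi m)) := fun m => by
    conv_lhs => rw [← TT_facts.2.2.2.2.2.2.1 m, ← hxX]
    group
  set g' := x * g * x⁻¹
  set q := ofList ((List.finRange 8).map fun n => X (f' (Xi n))) with hq
  have hqd : ∀ m, q m = X (f' (Xi m)) := fun m => by simp [hq, ofList, List.getD_eq_getElem?_getD]
  have hg' : ∀ m, g' * lift t e (TT m) * g'⁻¹ = lift t e (TT (q m)) := fun m => by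
    rw [hqd]
    rw [show g' = x * g * x⁻¹ from rfl]
    calc x * g * x⁻¹ * lift t e (TT m) * (x * g * x⁻¹)⁻¹ = x * (g * (x⁻¹ * lift t e (TT m) * x) * g⁻¹) * x⁻¹ := by group
      _ = _ := by rw [hxi, hg, hxX]
  have hxN : x ∈ N := by
    rw [hN, hP, Subgroup.mem_normalizer_iff]
    intro s
    constructor
    · intro hs
      obtain ⟨m, rfl⟩ := (mem_sylow2_iff t e ht _).1 hs
      exact (mem_sylow2_iff t e ht _).2 ⟨_, (hxX m).symm⟩
    · intro hs
      obtain ⟨m, hm⟩ := (mem_sylow2_iff t e ht _).1 hs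
      exact (mem_sylow2_iff t e ht _).2 ⟨Xi m, by rw [← hxi, hm]; group⟩
  have h7' : g ^ 7 = 1 := hg₀ ▸ pow_orderOf_eq_one g
  have hs7 : ∀ n, iter f' 7 n = n := fun n => TT_inj t e ht (by rw [← hpow 7 g f' hg, h7']; group)
  have hne : ¬ ∀ n, f' n = n := by
    intro h
    have h1 := hg 1
    rw [h 1, TT_one t e ht, mul_inv_eq_iff_eq_mul] at h1
    have := Subgroup.orderOf_dvd_natCard _ (show g ∈ Subgroup.centralizer ({t} : Set G) from
      Subgroup.mem_centralizer_singleton_iff.2 h1)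
    rw [card_ct t e ht, hg₀] at this
    norm_num at this
  have hc := crit_all (f 1) (f 2) (f 4)
  simp only [crit, Bool.or_eq_true, Bool.not_eq_eq_eq_not, Bool.not_true, List.any_eq_true, List.mem_range] at hc
  rw [← hf', ← hq] at hc
  rcases hc with hc | ⟨k, hk, hc⟩
  · exfalso
    simp only [Bool.and_eq_false_iff, List.all_eq_false, beq_iff_eq, List.mem_finRange, true_and, id_eq,
      Bool.not_eq_false', List.all_eq_true, forall_const, Bool.or_eq_true, Bool.not_eq_true', List.mem_range] at hc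
    rcases hc with (⟨n, hn⟩ | hc) | ⟨i, hi, hc⟩
    · exact hn (hs7 n)
    · exact hne hc
    · simp only [not_forall, not_or, Bool.not_eq_true, List.all_eq_false, beq_iff_eq, List.mem_finRange,
        true_and, List.all_eq_true, forall_const, Bool.or_eq_true, Bool.not_eq_false', exists_prop] at hc
      obtain ⟨j, hj, hc⟩ := hc
      obtain ⟨h4, ⟨m, hm⟩⟩ : (∀ m, iter (ofList ((List.finRange 8).map fun n => iter f' i (iter q j n))) 4 m = m)
          ∧ ∃ m, ofList ((List.finRange 8).map fun n => iter f' i (iter q j n)) m ≠ m := by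
        simpa using hc
      set h := ofList ((List.finRange 8).map fun n => iter f' i (iter q j n)) with hh
      have hhn : ∀ m, (g ^ i * g' ^ j) * lift t e (TT m) * (g ^ i * g' ^ j)⁻¹ = lift t e (TT (h m)) := fun m => by
        rw [show h m = iter f' i (iter q j m) by simp [hh, ofList, List.getD_eq_getElem?_getD]]
        calc g ^ i * g' ^ j * lift t e (TT m) * (g ^ i * g' ^ j)⁻¹
            = g ^ i * (g' ^ j * lift t e (TT m) * (g' ^ j)⁻¹) * (g ^ i)⁻¹ := by group
          _ = _ := by rw [hpow j g' q hg', hpow i g f' hg]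
      have hmN : g ^ i * g' ^ j ∈ N :=
        mul_mem (pow_mem hgN i) (pow_mem (mul_mem (mul_mem hxN hgN) (inv_mem hxN)) j)
      have := no_two_action t e ht hP hmN (fun m' => by rw [hpow 4 _ h hhn, h4]) m
      rw [hhn] at this
      exact hm (TT_inj t e ht this)
  · simp only [List.all_eq_true, beq_iff_eq, List.mem_finRange, forall_const] at hc
    refine ⟨g ^ k, ?_, ?_⟩
    · refine orderOf_eq_prime (by rw [← pow_mul, mul_comm, pow_mul, h7', one_pow]) fun h1 => ?_
      rcases hc with hc | hc <;>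
        have h2 := hpow k g f' hg 1 <;> rw [h1, hc 1, inv_one, mul_one, one_mul] at h2 <;>
        exact absurd (TT_inj t e ht h2) (by decide)
    · rcases hc with hc | hc
      · exact Or.inl fun m => by rw [hpow k g f' hg, hc]
      · exact Or.inr fun m => by rw [hpow k g f' hg, hc]

end CfsgLib.Sporadic.J1Unique
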