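import Cfsg.Agent.Lib.Sporadic.CosetCertApply
import Cfsg.Agent.Lib.Sporadic.J1Unique.Data.CertMain
import Cfsg.Agent.Lib.Sporadic.J1Unique.Data.CertTwo
import Cfsg.Agent.Lib.Sporadic.J1Unique.Data.CertThree
import Cfsg.Agent.Lib.Sporadic.J1Unique.Data.CertFour
import Cfsg.Agent.Lib.KnownA.J1Facts

/-!
# The relations satisfied by `t`, generators of `A5` and an element of order seven

The letters are `t, a, a⁻¹, b, b⁻¹, g, g⁻¹`. Of the four possible extra relations one gives index
1463, the others index one.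
-/

set_option autoImplicit false

namespace CfsgLib.Sporadic.J1Unique

open CfsgLib.Sporadic.CosetCert

variable {Γ : Type*} [Group Γ]

/-- The value of a word. -/
def evl (v : ℕ → Γ) : List ℕ → Γ
  | [] => 1
  | x :: l => v x * evl v l

/-- The values of the letters. -/
def lets (t a b g : Γ) (x : ℕ) : Γ :=
  [t, a, a⁻¹, b, b⁻¹, g, g⁻¹].getD x 1

/-- The common relators. -/
def relWords : List (List ℕ) :=
  [[1, 1, 1],
   [3, 3, 3, 3, 3],
   [1, 3, 1, 3],
   [0, 1, 0, 2],
   [0, 3, 0, 4],
   [5, 5, 5, 5, 5, 5, 5],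
   [5, 0, 6, 2, 4, 4, 2, 2, 4, 4, 2, 2, 0],
   [5, 0, 1, 1, 3, 3, 1, 1, 3, 3, 1, 6, 4, 4, 2, 2, 4, 4, 2, 2, 4, 0],
   [5, 0, 3, 1, 1, 3, 3, 1, 1, 3, 3, 6, 4, 4, 2, 2, 4, 4, 2, 2, 4],
   [1, 3, 1, 1, 3, 3, 1, 1, 5, 2, 2, 4, 4, 2, 2, 4, 2, 6, 6]]

/-- The four candidates for the last relator. -/
def extraWord : Fin 4 → List ℕ :=
  ![[5, 3, 1, 1, 3, 3, 3, 1, 6, 3, 5, 2, 4, 4, 4, 2, 2, 4, 6, 4],
    [5, 3, 1, 1, 3, 3, 1, 1, 6, 3, 5, 2, 2, 4, 4, 2, 2, 4, 6, 4],
    [5, 5, 5, 5, 5, 1, 6, 6, 6, 6, 6, 3, 5, 5, 5, 5, 5, 2, 6, 6, 6, 6, 6, 4],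
    [5, 5, 5, 5, 5, 1, 3, 3, 6, 6, 6, 6, 6, 3, 5, 5, 5, 5, 5, 4, 4, 2, 6, 6, 6, 6, 6, 4]]

/-- The common relations. -/
structure Rels (t a b g : Γ) : Prop where
  t2 : t * t = 1
  words : ∀ w ∈ relWords, evl (lets t a b g) w = 1

theorem evl_append (v : ℕ → Γ) (l m : List ℕ) : evl v (l ++ m) = evl v l * evl v m := by
  induction l with
  | nil => exact (one_mul _).symm
  | cons x l ih => simp [evl, ih, mul_assoc]

theorem map_evl {Γ' : Type*} [Group Γ'] (φ : Γ →* Γ') (v : ℕ → Γ) (l : List ℕ) :
    φ (evl v l) = evl (fun x => φ (v x)) l := by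
  induction l with
  | nil => simp [evl]
  | cons x l ih => simp [evl, ih]

theorem map_lets {Γ' : Type*} [Group Γ'] (φ : Γ →* Γ') (t a b g : Γ) (x : ℕ) :
    φ (lets t a b g x) = lets (φ t) (φ a) (φ b) (φ g) x := by
  rcases x with _ | _ | _ | _ | _ | _ | _ | x <;> simp [lets]

theorem lets_mem {K : Subgroup Γ} {t a b g : Γ} (ht : t ∈ K) (ha : a ∈ K) (hb : b ∈ K) (hg : g ∈ K)
    (x : ℕ) : lets t a b g x ∈ K := by
  rcases x with _ | _ | _ | _ | _ | _ | _ | x <;> simp [lets, ht, ha, hb, hg, one_mem]

/-- The decoded words of a certificate. -/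
def decoded (C : Cert) : List (List ℕ) :=
  C.words.map fun w => (List.range w.1).reverse.map (Cert.letterAt w.1 w.2 0)

/-- The subgroup generated by `t`, `a`, `b`. -/
def base (t a b : Γ) : Subgroup Γ := Subgroup.closure {t, a, b}

/-- The subgroup generated by all four elements. -/
def gen (t a b g : Γ) : Subgroup Γ := Subgroup.closure (lets t a b g '' Set.Iio 7)

theorem word_eq (C : Cert) (i : ℕ) (hi : i < C.words.length) : C.word i = C.words[i] := by
  unfold Cert.word
  generalize C.words = L at hi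
  induction L generalizing i with
  | nil => simp at hi
  | cons w L ih =>
    cases i with
    | zero => rfl
    | succ j => exact ih j (Nat.lt_of_succ_lt_succ hi)

theorem relIndex_le {C : Cert} (hV : C.Valid) {N : ℕ} (hN : C.N = N) (hN0 : 0 < N) (hnl : C.nl = 7)
    (hiv : C.iv = 0x5634120) (hnr : C.nr = 11) (i : Fin 4)
    (hdec : decoded C = relWords ++ [extraWord i] ++ [[0], [1], [3]]) {t a b g : Γ} (hR : Rels t a b g)
    (hE : evl (lets t a b g) (extraWord i) = 1) :
    (base t a b).relIndex (gen t a b g) ≤ N ∧ (base t a b).relIndex (gen t a b g) ≠ 0 := by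
  have hinv : ∀ x, x < C.nl → lets t a b g (C.inv x) = (lets t a b g x)⁻¹ := by
    intro x hx
    rw [hnl] at hx
    have hi : ∀ x < 7, C.inv x = [0, 2, 1, 4, 3, 6, 5].getD x 0 := by
      unfold Cert.inv
      rw [hiv]
      decide
    rw [hi x hx]
    interval_cases x <;> simp [lets, inv_eq_of_mul_eq_one_right hR.t2]
  let I : C.Interp Γ (Γ ⧸ base t a b) :=
    { g := lets t a b g
      base := ((1 : Γ) : Γ ⧸ base t a b)
      g_nl := by rw [hnl]; rfl
      g_inv := hinv }
  have hprod : ∀ n bits j, I.prod n bits 0 j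
      = evl (lets t a b g) ((List.range j).reverse.map (Cert.letterAt n bits 0)) := by
    intro n bits j
    induction j with
    | zero => rfl
    | succ j ih =>
      rw [List.range_succ, List.reverse_append, List.reverse_singleton, List.singleton_append, List.map_cons,
        evl, ← ih]
      rfl
  have hlen : C.words.length = 14 := by
    have := congrArg List.length hdec
    simpa [decoded, relWords] using this
  have hresp : I.Respects := by
    intro j hj
    have hw : I.prod (C.word j).1 (C.word j).2 0 (C.word j).1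
        = evl (lets t a b g) ((relWords ++ [extraWord i] ++ [[0], [1], [3]]).getD j []) := by
      rw [hprod, ← hdec, word_eq C j hj, List.getD_eq_getElem _ _ (by simpa [decoded] using hj)]
      simp [decoded]
    rw [hlen] at hj
    have hrel : j < 11 → I.prod (C.word j).1 (C.word j).2 0 (C.word j).1 = 1 := by
      intro h
      rw [hw]
      rcases Nat.lt_or_eq_of_le (Nat.le_of_lt_succ h) with h' | rfl
      · refine hR.words _ ?_
        rw [List.getD_append _ _ _ _ (by simp [relWords]; omega), List.getD_append _ _ _ _ (by simp [relWords]; omega),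
          List.getD_eq_getElem _ _ (by simp [relWords]; omega)]
        exact List.getElem_mem _
      · simpa [relWords] using hE
    refine ⟨fun h => hrel (hnr ▸ h), ?_⟩
    by_cases h : j < 11
    · rw [hrel h, one_smul]
    · rw [hw]
      show _ • ((1 : Γ) : Γ ⧸ base t a b) = ((1 : Γ) : Γ ⧸ base t a b)
      rw [MulAction.Quotient.smul_coe, smul_eq_mul, mul_one, QuotientGroup.eq, mul_one, inv_mem_iff]
      interval_cases j <;> simp [relWords, evl, lets, base] <;>
        exact Subgroup.subset_closure (by simp)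
  have h := Cert.relIndex_le I rfl hV hresp (hN ▸ hN0)
  rw [hnl, hN] at h
  exact h

theorem base_le_gen (t a b g : Γ) : base t a b ≤ gen t a b g := by
  refine (Subgroup.closure_le _).2 ?_
  rintro x (rfl | rfl | rfl)
  · exact Subgroup.subset_closure ⟨0, by simp, rfl⟩
  · exact Subgroup.subset_closure ⟨1, by simp, rfl⟩
  · exact Subgroup.subset_closure ⟨3, by simp, rfl⟩

theorem local_rels {t a b g : Γ} (hR : Rels t a b g) :
    a ^ 3 = 1 ∧ b ^ 5 = 1 ∧ (a * b) ^ 2 = 1 ∧ Commute t a ∧ Commute t b := by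
  have h0 := hR.words [1, 1, 1] (by simp [relWords])
  have h1 := hR.words [3, 3, 3, 3, 3] (by simp [relWords])
  have h2 := hR.words [1, 3, 1, 3] (by simp [relWords])
  have h3 := hR.words [0, 1, 0, 2] (by simp [relWords])
  have h4 := hR.words [0, 3, 0, 4] (by simp [relWords])
  simp only [evl, lets, List.getD_cons_zero, List.getD_cons_succ, mul_one] at h0 h1 h2 h3 h4
  have ht := hR.t2
  have comm : ∀ x : Γ, t * (x * (t * x⁻¹)) = 1 → Commute t x := fun x h => by
    show t * x = x * t
    have h' : t * x * t = x := by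
      refine mul_inv_eq_one.1 ?_
      simpa [mul_assoc] using h
    calc t * x = t * x * (t * t) := by rw [ht, mul_one]
      _ = t * x * t * t := by simp [mul_assoc]
      _ = x * t := by rw [h']
  exact ⟨by rw [pow_three]; exact h0, by simp only [pow_succ, pow_zero, one_mul, mul_assoc]; exact h1,
    by rw [pow_two, mul_assoc]; exact h2, comm a h3, comm b h4⟩

theorem card_base_le {t a b g : Γ} (hR : Rels t a b g) :
    Nat.card (base t a b) ≤ 120 ∧ Nat.card (base t a b) ≠ 0 := by
  obtain ⟨ha, hb, hab, hta, htb⟩ := local_rels hR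
  obtain ⟨e⟩ := CfsgLib.Recognition.Zassenhaus.icosa_presented
  let f : Fin 2 → Γ := ![a, b]
  have hrel : ∀ w ∈ CfsgLib.Recognition.Zassenhaus.icosaRels, FreeGroup.lift f w = 1 := by
    rintro w (rfl | rfl | rfl) <;> simp [f, ha, hb, hab]
  let φ : alternatingGroup (Fin 5) →* Γ := (PresentedGroup.toGroup hrel).comp e.symm.toMonoidHom
  have hφa : φ (e (PresentedGroup.of 0)) = a := by simp [φ, f]
  have hφb : φ (e (PresentedGroup.of 1)) = b := by simp [φ, f]
  have hc : ∀ y ∈ Subgroup.closure ({a, b} : Set Γ), Commute t y := fun y hy => by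
    induction hy using Subgroup.closure_induction with
    | mem y hy => rcases hy with rfl | rfl; exacts [hta, htb]
    | one => exact Commute.one_right t
    | mul u v _ _ hu hv => exact hu.mul_right hv
    | inv u _ hu => exact hu.inv_right
  have hφr : ∀ z, φ z ∈ Subgroup.closure ({a, b} : Set Γ) := fun z => by
    obtain ⟨p, rfl⟩ := e.surjective z
    simp only [φ, MonoidHom.comp_apply, MulEquiv.coe_toMonoidHom, MulEquiv.symm_apply_apply]
    exact PresentedGroup.generated_by _ ((Subgroup.closure ({a, b} : Set Γ)).comap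
      (PresentedGroup.toGroup hrel)) (fun j => by
        rw [Subgroup.mem_comap, PresentedGroup.toGroup.of]
        fin_cases j <;> exact Subgroup.subset_closure (by simp [f])) p
  let Φ : Multiplicative (ZMod 2) × alternatingGroup (Fin 5) →* Γ :=
    MonoidHom.noncommCoprod (CfsgLib.KnownA.J1Facts.twoHom t hR.t2) φ fun j z => by
      simp only [CfsgLib.KnownA.J1Facts.twoHom, MonoidHom.coe_mk, OneHom.coe_mk]
      split_ifs
      · exact Commute.one_left _
      · exact hc _ (hφr z)
  have hle : base t a b ≤ Φ.range := by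
    refine (Subgroup.closure_le _).2 ?_
    rintro x (rfl | rfl | rfl)
    · exact ⟨(Multiplicative.ofAdd 1, 1), by simp [Φ, CfsgLib.KnownA.J1Facts.twoHom]⟩
    · exact ⟨(1, e (PresentedGroup.of 0)), by simp [Φ, hφa]⟩
    · exact ⟨(1, e (PresentedGroup.of 1)), by simp [Φ, hφb]⟩
  have hfin : Finite Φ.range := Finite.of_surjective _ Φ.rangeRestrict_surjective
  have h120 : Nat.card (Multiplicative (ZMod 2) × alternatingGroup (Fin 5)) = 120 := by
    rw [Nat.card_prod, nat_card_alternatingGroup, Nat.card_eq_fintype_card]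
    simp [Nat.factorial]
  have hfin' : Finite (base t a b) := Finite.of_injective _ (Subgroup.inclusion_injective hle)
  refine ⟨?_, Nat.card_pos.ne'⟩
  calc Nat.card (base t a b) ≤ Nat.card Φ.range :=
        Nat.card_le_card_of_injective _ (Subgroup.inclusion_injective hle)
    _ ≤ 120 := h120 ▸ Nat.card_le_card_of_surjective _ Φ.rangeRestrict_surjective

/-- The main case: at most 175560 elements. -/
theorem card_gen_le {t a b g : Γ} (hR : Rels t a b g) (hE : evl (lets t a b g) (extraWord 0) = 1) :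
    Nat.card (gen t a b g) ≤ 175560 ∧ Nat.card (gen t a b g) ≠ 0 :=
  card_le_of_relIndex (base_le_gen t a b g)
    (relIndex_le CosetCert.J1UniqueData.certMain_valid (N := 1463) rfl (by norm_num) rfl rfl rfl 0
      (by decide +kernel) hR hE)
    (card_base_le hR)

/-- The other cases collapse. -/
theorem commute_of_collapse {t a b g : Γ} (hR : Rels t a b g) {i : Fin 4} (hi : i ≠ 0)
    (hE : evl (lets t a b g) (extraWord i) = 1) : Commute t g := by
  obtain ⟨h1, h0⟩ : (base t a b).relIndex (gen t a b g) ≤ 1 ∧ (base t a b).relIndex (gen t a b g) ≠ 0 := by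
    fin_cases i
    · exact absurd rfl hi
    · exact relIndex_le CosetCert.J1UniqueData.certTwo_valid (N := 1) rfl (by norm_num) rfl rfl rfl 1
        (by decide +kernel) hR hE
    · exact relIndex_le CosetCert.J1UniqueData.certThree_valid (N := 1) rfl (by norm_num) rfl rfl rfl 2
        (by decide +kernel) hR hE
    · exact relIndex_le CosetCert.J1UniqueData.certFour_valid (N := 1) rfl (by norm_num) rfl rfl rfl 3
        (by decide +kernel) hR hE
  have hle : gen t a b g ≤ base t a b := Subgroup.relIndex_eq_one.1 (by omega)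
  have hg : g ∈ base t a b := hle (Subgroup.subset_closure ⟨5, by simp, rfl⟩)
  obtain ⟨-, -, -, hta, htb⟩ := local_rels hR
  have hall : base t a b ≤ Subgroup.centralizer ({t} : Set Γ) := by
    refine (Subgroup.closure_le _).2 ?_
    rintro x (rfl | rfl | rfl) <;> refine Subgroup.mem_centralizer_singleton_iff.2 ?_
    · rfl
    · exact hta.eq.symm
    · exact htb.eq.symm
  exact (Subgroup.mem_centralizer_singleton_iff.1 (hall hg)).symm

end CfsgLib.Sporadic.J1Unique
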