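import Cfsg.Agent.Lib.Sporadic.J1Unique.Frame
import Cfsg.Agent.Lib.Sporadic.J1Unique.Pres

/-!
# The normalised element of order seven and the common relations
-/

set_option autoImplicit false

open scoped Classical

namespace CfsgLib.Sporadic.J1Unique

open Cfsg CfsgLib CfsgLib.Sporadic.J1Order CfsgLib.Sporadic.J1Order.Conc

/-- The automorphism of the concrete centraliser given by a transposition. -/
noncomputable def swapAut : H5 ≃* H5 :=
  MulEquiv.prodCongr (MulEquiv.refl _) ((MulAut.conjNormal (Equiv.swap (0 : Fin 5) 1) :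
    MulAut (alternatingGroup (Fin 5))))

theorem swapAut_TT (n : Fin 8) : swapAut (TT n) = TT (Q n) := by
  refine Prod.ext ?_ (Subtype.ext ?_)
  · exact (TT_aut n).2
  · show Equiv.swap (0 : Fin 5) 1 * ((TT n).2 : Equiv.Perm (Fin 5)) * (Equiv.swap 0 1)⁻¹ = _
    rw [Equiv.swap_inv]
    exact (TT_aut n).1

variable {G : Type*} [Group G] [Fintype G]

theorem exists_M [IsSimpleGroup G] (hG : ¬ IsMulCommutative G) (t : G) (ht : IsTwoCentralInvolution t)
    (e : Subgroup.centralizer ({t} : Set G) ≃* H5) :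
    ∃ (e' : Subgroup.centralizer ({t} : Set G) ≃* H5) (g : G), orderOf g = 7 ∧
      ∀ m, g * lift t e' (TT m) * g⁻¹ = lift t e' (TT (M m)) := by
  obtain ⟨g, hg7, hg | hg⟩ := exists_seven t e ht hG
  · exact ⟨e, g, hg7, hg⟩
  · refine ⟨e.trans swapAut, g, hg7, fun m => ?_⟩
    have hl : ∀ n, lift t (e.trans swapAut) (TT n) = lift t e (TT (Q n)) := fun n => by
      have : swapAut.symm (TT n) = TT (Q n) := by
        rw [MulEquiv.symm_apply_eq, swapAut_TT, TT_facts.2.2.2.2.2.2.2]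
      simp [lift, this]
    rw [hl, hl, hg, show M' (Q m) = Q (M m) by rw [M', TT_facts.2.2.2.2.2.2.2]]

variable (t : G) (e : Subgroup.centralizer ({t} : Set G) ≃* H5) (ht : IsTwoCentralInvolution t)
include e ht

/-- An element of order seven acting as `M` and inverted to its square by `ξ`. -/
theorem exists_normalised {g₁ : G} (h7 : orderOf g₁ = 7)
    (hM : ∀ m, g₁ * lift t e (TT m) * g₁⁻¹ = lift t e (TT (M m))) :
    ∃ g : G, g ^ 7 = 1 ∧ (∀ m, g * lift t e (TT m) * g⁻¹ = lift t e (TT (M m))) ∧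
      lift t e ξ * g * (lift t e ξ)⁻¹ = g * g := by
  set L := fun m => lift t e (TT m) with hL
  have hLmul : ∀ a b, L (xor8 a b) = L a * L b := fun a b => by simp only [hL]; rw [TT_mul, map_mul]
  have hL0 : L 0 = 1 := by simp only [hL]; rw [TT_facts.1, map_one]
  have h17 : g₁ ^ 7 = 1 := h7 ▸ pow_orderOf_eq_one g₁
  have hpow : ∀ k m, g₁ ^ k * L m = L (iter M k m) * g₁ ^ k := by
    intro k
    induction k with
    | zero => intro m; simp [iter]
    | succ k ih =>
      intro m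
      rw [pow_succ', mul_assoc, ih m, ← mul_assoc]
      show g₁ * L (iter M k m) * g₁ ^ k = L (M (iter M k m)) * (g₁ * g₁ ^ k)
      rw [← mul_assoc]
      congr 1
      exact mul_inv_eq_iff_eq_mul.1 (hM _)
  let E : Fin 7 × Fin 8 → G := fun p => g₁ ^ p.1.val * L p.2
  have hE : ∀ p q, E (mulE p q) = E p * E q := by
    intro p q
    obtain ⟨a, u⟩ := p
    obtain ⟨b, v⟩ := q
    show g₁ ^ (a + b).val * L (xor8 (iter M (7 - b.val) u) v) = g₁ ^ a.val * L u * (g₁ ^ b.val * L v)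
    have hpm : g₁ ^ (a + b).val = g₁ ^ a.val * g₁ ^ b.val := by
      rw [← pow_add, Fin.val_add]
      exact (pow_eq_pow_mod _ h17).symm
    have hu : g₁ ^ b.val * L (iter M (7 - b.val) u) = L u * g₁ ^ b.val := by
      rw [hpow]
      congr 1
      have hit : ∀ i j m, iter M i (iter M j m) = iter M (i + j) m := by
        intro i j m
        induction i with
        | zero => simp [iter]
        | succ i ih => rw [Nat.succ_add]; show M (iter M i (iter M j m)) = M _; rw [ih]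
      rw [hit, show b.val + (7 - b.val) = 7 by omega, M_facts.1]
    rw [hLmul, hpm]
    simp only [mul_assoc]
    rw [← mul_assoc (g₁ ^ b.val), hu]
    simp only [mul_assoc]
  have hE0 : E (0, 0) = 1 := by simp [E, hL0]
  have hEp : ∀ p k, E (powE p k) = E p ^ k := by
    intro p k
    induction k with
    | zero => rw [pow_zero]; exact hE0
    | succ k ih => rw [powE, hE, ih, pow_succ]
  set x := lift t e ξ with hx
  have hxL : ∀ m, x * L m * x⁻¹ = L (X m) := fun m => by
    simp only [hx, hL]; rw [← map_inv, ← map_mul, ← map_mul, TT_facts.2.2.2.2.2.1]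
  have hxi : ∀ m, x⁻¹ * L m * x = L (Xi m) := fun m => by
    conv_lhs => rw [← TT_facts.2.2.2.2.2.2.1 m, ← hxL]
    group
  -- the image of `g₁`
  have hs : (g₁ ^ 2)⁻¹ * (x * g₁ * x⁻¹) ∈ sylow2 t e := by
    refine cent_sylow2 t e ht fun m => ?_
    show (g₁ ^ 2)⁻¹ * (x * g₁ * x⁻¹) * L m * ((g₁ ^ 2)⁻¹ * (x * g₁ * x⁻¹))⁻¹ = L m
    have h1 : x * g₁ * x⁻¹ * L m * (x * g₁ * x⁻¹)⁻¹ = L (iter M 2 m) := by
      calc x * g₁ * x⁻¹ * L m * (x * g₁ * x⁻¹)⁻¹ = x * (g₁ * (x⁻¹ * L m * x) * g₁⁻¹) * x⁻¹ := by group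
        _ = x * L (M (Xi m)) * x⁻¹ := by rw [hxi]; simp only [hL]; rw [hM]
        _ = _ := by rw [hxL, M_facts.2.2.1]
    calc (g₁ ^ 2)⁻¹ * (x * g₁ * x⁻¹) * L m * ((g₁ ^ 2)⁻¹ * (x * g₁ * x⁻¹))⁻¹
        = (g₁ ^ 2)⁻¹ * (x * g₁ * x⁻¹ * L m * (x * g₁ * x⁻¹)⁻¹) * g₁ ^ 2 := by group
      _ = (g₁ ^ 2)⁻¹ * (L (iter M 2 m) * g₁ ^ 2) := by rw [h1, mul_assoc]
      _ = L m := by rw [← hpow, inv_mul_cancel_left]
  obtain ⟨s, hs'⟩ := (mem_sylow2_iff t e ht _).1 hs
  have himg : x * g₁ * x⁻¹ = E (2, s) := by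
    show _ = g₁ ^ 2 * L s
    simp only [hL]
    rw [hs', mul_inv_cancel_left]
  have hconj : ∀ p, E (conjE s p) = x * E p * x⁻¹ := by
    rintro ⟨a, u⟩
    rw [conjE, hE, hEp, ← himg, conj_pow]
    show x * g₁ ^ a.val * x⁻¹ * (g₁ ^ 0 * L (X u)) = x * (g₁ ^ a.val * L u) * x⁻¹
    rw [pow_zero, one_mul, ← hxL]
    group
  have hx3 : x ^ 3 = 1 := by rw [hx, ← map_pow, basics.2.2.1, map_one]
  have hfix : conjE s (conjE s (conjE s (1, 0))) = (1, 0) := by
    set p := conjE s (conjE s (conjE s (1, 0))) with hp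
    have h1 : E p = E (1, 0) := by
      rw [hp, hconj, hconj, hconj]
      calc x * (x * (x * E (1, 0) * x⁻¹) * x⁻¹) * x⁻¹ = x ^ 3 * E (1, 0) * (x ^ 3)⁻¹ := by
            simp only [pow_three, mul_inv_rev, mul_assoc]
        _ = E (1, 0) := by rw [hx3]; group
    have hfst : p.1 = 1 := conjE_fst s
    refine Prod.ext hfst (TT_inj t e ht ?_)
    have h2 : g₁ ^ p.1.val * L p.2 = g₁ ^ (1 : Fin 7).val * L 0 := h1
    rw [hfst] at h2
    exact mul_left_cancel h2
  obtain ⟨v, hv⟩ := normalise s hfix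
  refine ⟨E (1, v), ?_, fun m => ?_, ?_⟩
  · rw [← hEp, powE_seven, hE0]
  · show g₁ ^ 1 * L v * L m * (g₁ ^ 1 * L v)⁻¹ = L (M m)
    have hc : L v * L m * (L v)⁻¹ = L m := by
      rw [(sylow2_facts t e ht).2.2 _ ((mem_sylow2_iff t e ht _).2 ⟨v, rfl⟩) _
        ((mem_sylow2_iff t e ht _).2 ⟨m, rfl⟩), mul_inv_cancel_right]
    calc g₁ ^ 1 * L v * L m * (g₁ ^ 1 * L v)⁻¹ = g₁ * (L v * L m * (L v)⁻¹) * g₁⁻¹ := by group
      _ = L (M m) := by rw [hc]; exact hM m
  · rw [← hconj, hv, hE]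

/-- The common relations. -/
theorem rels {g : G} (h7 : g ^ 7 = 1) (hM : ∀ m, g * lift t e (TT m) * g⁻¹ = lift t e (TT (M m)))
    (hx : lift t e ξ * g * (lift t e ξ)⁻¹ = g * g) : Rels t (lift t e α) (lift t e β) g := by
  have htau := lift_tau t e ht.1
  have h2 : t * t = 1 := by rw [← pow_two, ← ht.1]; exact pow_orderOf_eq_one t
  set a := lift t e α with ha
  set b := lift t e β with hb
  obtain ⟨ga, gb, -, gab, gta, gtb, gT1, gT2, gxi, g5⟩ := gens
  have a3 : a ^ 3 = 1 := by rw [ha, ← map_pow, ga, map_one]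
  have b5 : b ^ 5 = 1 := by rw [hb, ← map_pow, gb, map_one]
  have ab2 : (a * b) ^ 2 = 1 := by rw [ha, hb, ← map_mul, ← map_pow, gab, map_one]
  have cta : t * a = a * t := by
    have := congrArg (lift t e) gta
    rwa [map_mul, map_mul, htau] at this
  have ctb : t * b = b * t := by
    have := congrArg (lift t e) gtb
    rwa [map_mul, map_mul, htau] at this
  have eT1 : lift t e (TT 2) = t * (a * a * b * b * a * a * b * b * a) := by
    rw [← gT1]; simp only [map_mul, htau, ha, hb]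
  have eT2 : lift t e (TT 4) = t * (b * a * a * b * b * a * a * b * b) := by
    rw [← gT2]; simp only [map_mul, htau, ha, hb]
  have exi : lift t e ξ = a * b * a * a * b * b * a * a := by
    rw [← gxi]; simp only [map_mul, ha, hb]
  have hT1 := hM 1
  rw [TT_one t e ht, show M 1 = 2 by decide, eT1] at hT1
  have hT2 := hM 2
  rw [show M 2 = 4 by decide, eT1, eT2] at hT2
  have hT3 := hM 4
  rw [show M 4 = 5 by decide, g5, map_mul, htau, eT2] at hT3
  rw [exi] at hx
  have ti : t⁻¹ = t := inv_eq_of_mul_eq_one_right h2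
  refine ⟨h2, fun w hw => ?_⟩
  simp only [relWords, List.mem_cons, List.not_mem_nil, or_false] at hw
  rcases hw with rfl | rfl | rfl | rfl | rfl | rfl | rfl | rfl | rfl | rfl <;>
    simp only [evl, lets, List.getD_cons_zero, List.getD_cons_succ, mul_one]
  · rw [← pow_three]; exact a3
  · simpa [pow_succ, mul_assoc] using b5
  · simpa [pow_succ, mul_assoc] using ab2
  · rw [← mul_assoc, cta, ← mul_assoc, mul_assoc a, h2, mul_one, mul_inv_cancel]
  · rw [← mul_assoc, ctb, ← mul_assoc, mul_assoc b, h2, mul_one, mul_inv_cancel]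
  · simpa [pow_succ, mul_assoc] using h7
  · calc _ = g * t * g⁻¹ * (t * (a * a * b * b * a * a * b * b * a))⁻¹ := by simp [mul_assoc, ti]
      _ = 1 := by rw [hT1]; exact mul_inv_cancel _
  · calc _ = g * (t * (a * a * b * b * a * a * b * b * a)) * g⁻¹
          * (t * (b * a * a * b * b * a * a * b * b))⁻¹ := by simp [mul_assoc, ti]
      _ = 1 := by rw [hT2]; exact mul_inv_cancel _
  · calc _ = g * (t * (b * a * a * b * b * a * a * b * b)) * g⁻¹
          * (t * (t * (b * a * a * b * b * a * a * b * b)))⁻¹ := by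
            rw [← mul_assoc t t, h2, one_mul]; simp [mul_assoc, ti]
      _ = 1 := by rw [hT3]; exact mul_inv_cancel _
  · calc _ = a * b * a * a * b * b * a * a * g * (a * b * a * a * b * b * a * a)⁻¹ * (g * g)⁻¹ := by
          simp [mul_assoc]
      _ = 1 := by rw [hx]; exact mul_inv_cancel _

end CfsgLib.Sporadic.J1Unique
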